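/-
The context of an essential subgroup of a saturated fusion system, any prime: invariant chains and the pair lemma.
-/
import Cfsg.Agent.FUS.RF4.CxF

set_option autoImplicit false
set_option linter.unusedSectionVars false

namespace CL.U5

open CL.Fus CL.RF4 Subgroup Cfsg Cfsg.FusionSystem
open scoped commutatorElement

variable {Ω : Type*} [Group Ω] {P E B C D Z N : Subgroup Ω} {A : Set (Ω → Ω)} {g : Ω} {ψ : Ω → Ω}

/-- `B ≰ E` stabilises the chain `1 ≤ N ≤ Z ≤ E`, `N` is invariant -/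
structure Qd (P E : Subgroup Ω) (A : Set (Ω → Ω)) (B Z N : Subgroup Ω) : Prop where
  le : B ≤ P
  nle : ¬ B ≤ E
  ZE : Z ≤ E
  nrm : ∀ y ∈ E, ∀ z ∈ Z, cj y z ∈ Z
  NZ : N ≤ Z
  iv : Iv E A N
  bE : ∀ b ∈ B, ∀ y ∈ E, ⁅b, y⁆ ∈ Z
  bZ : ∀ b ∈ B, ∀ z ∈ Z, ⁅b, z⁆ ∈ N
  bN : ∀ b ∈ B, ∀ n ∈ N, b * n = n * b

/-- `ψ Z ≠ Z`, and `[b, w] ∉ ψ Z` for `b ∈ B ∖ E`, `w ∈ ψ Z ∖ Z` -/
def Pr (E B Z : Subgroup Ω) (ψ : Ω → Ω) : Prop :=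
  (∃ z ∈ Z, ψ z ∉ Z) ∧ ∀ z ∈ Z, ψ z ∉ Z → ∀ b ∈ B, ∀ z' ∈ Z, ⁅b, ψ z⁆ = ψ z' → b ∈ E

/-- the context of an essential subgroup `E` of `P` with automizer `A` -/
structure Cp (P E : Subgroup Ω) (A : Set (Ω → Ω)) : Prop extends Au E A where
  le : E ≤ P
  ne : ¬ P ≤ E
  id : ∃ α ∈ A, ∀ y ∈ E, α y = y
  comp : ∀ α ∈ A, ∀ β ∈ A, ∃ γ ∈ A, ∀ y ∈ E, γ y = α (β y)
  f1 : ∀ g ∈ P, g ∈ normalizer (E : Set Ω) → Ch E A g ⊥ ⊤ → g ∈ E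
  pair : ∀ B Z N : Subgroup Ω, Qd P E A B Z N → ∃ ψ ∈ A, Pr E B Z ψ

/-- the largest invariant subgroup of `B ⊓ E` -/
def core (hA : Au E A) (B : Subgroup Ω) : Subgroup Ω where
  carrier := {y | y ∈ E ∧ ∀ α ∈ A, α y ∈ B}
  one_mem' := ⟨one_mem _, fun α hα => by rw [(hA.hom α hα).map_one]; exact one_mem _⟩
  mul_mem' ha hb := ⟨mul_mem ha.1 hb.1, fun α hα => by rw [hA.hom α hα ha.1 hb.1]; exact mul_mem (ha.2 α hα) (hb.2 α hα)⟩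
  inv_mem' ha := ⟨inv_mem ha.1, fun α hα => by rw [(hA.hom α hα).map_inv ha.1]; exact inv_mem (ha.2 α hα)⟩

theorem mem_core {hA : Au E A} : g ∈ core hA B ↔ g ∈ E ∧ ∀ α ∈ A, α g ∈ B := Iff.rfl

namespace Cp

variable (h : Cp P E A)
include h

theorem iv_core (B : Subgroup Ω) : Ivs E A (core h.toAu B) := fun α hα y hy k => ⟨h.maps α hα y hy, fun β hβ =>
  let ⟨γ, hγ, e⟩ := h.comp β hβ α hα; e y hy ▸ k.2 γ hγ⟩

theorem core_le (B : Subgroup Ω) : core h.toAu B ≤ B := fun y k => let ⟨α, hα, e⟩ := h.id; e y k.1 ▸ k.2 α hα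

variable [Finite Ω]

/-- the last step of a chain -/
theorem mem_of_ch (hg : g ∈ P) (hc : Ch E A g ⊥ B) (hB : Iv E A B) (e : ∀ y ∈ E, ⁅g, y⁆ ∈ B)
    (e' : ∀ y ∈ E, ⁅g, y⁆ ∈ E) : g ∈ E :=
  h.f1 g hg (mem_normalizer_of_comm e') (hc.step hB Iv.top fun y hy _ => e y hy)

theorem mem1 (hg : g ∈ P) (e : ∀ y ∈ E, g * y = y * g) : g ∈ E :=
  have e' := fun y hy => commutatorElement_eq_one_iff_mul_comm.2 (e y hy)
  h.mem_of_ch hg .refl h.iv_bot (fun y hy => mem_bot.2 (e' y hy)) fun y hy => e' y hy ▸ one_mem _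

/-- the chain `1 < B < E`; `D` is any subgroup of `B ⊓ E` containing `[g, E]` -/
theorem mem2 (hg : g ∈ P) (hB : Iv E A B) (e1 : ∀ y ∈ E, y ∈ B → g * y = y * g) (hD : D ≤ B) (hD' : D ≤ E)
    (e2 : ∀ y ∈ E, ⁅g, y⁆ ∈ D) : g ∈ E :=
  h.mem_of_ch hg (Ch.base h.toAu hB e1) hB (fun y hy => hD (e2 y hy)) fun y hy => hD' (e2 y hy)

/-- the chain `1 < B < C < E`; `D` is any subgroup of `C ⊓ E` containing `[g, E]` -/
theorem mem3 (hg : g ∈ P) (hB : Iv E A B) (hC : Iv E A C) (e1 : ∀ y ∈ E, y ∈ B → g * y = y * g)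
    (e2 : ∀ y ∈ E, y ∈ C → ⁅g, y⁆ ∈ B) (hD : D ≤ C) (hD' : D ≤ E) (e3 : ∀ y ∈ E, ⁅g, y⁆ ∈ D) : g ∈ E :=
  h.mem_of_ch hg ((Ch.base h.toAu hB e1).step hB hC e2) hC (fun y hy => hD (e3 y hy)) fun y hy => hD' (e3 y hy)

/-- the chain `1 < B < C < D < E` with `[g, E] ≤ D ≤ E` -/
theorem mem4 (hg : g ∈ P) (hB : Iv E A B) (hC : Iv E A C) (hD : Iv E A D) (e1 : ∀ y ∈ E, y ∈ B → g * y = y * g)
    (e2 : ∀ y ∈ E, y ∈ C → ⁅g, y⁆ ∈ B) (e3 : ∀ y ∈ E, y ∈ D → ⁅g, y⁆ ∈ C) (hD' : D ≤ E) (e4 : ∀ y ∈ E, ⁅g, y⁆ ∈ D) : g ∈ E :=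
  h.mem_of_ch hg (((Ch.base h.toAu hB e1).step hB hC e2).step hC hD e3) hD e4 fun y hy => hD' (e4 y hy)

end Cp

/-- `|B : B ⊓ E| ≤ |Z : Z ⊓ ψ Z| = |ψ Z : Z ⊓ ψ Z|` -/
theorem Qd.false_of_cnt [Finite Ω] (q : Qd P E A B Z N) (hA : Au E A) (hψ : ψ ∈ A) (pr : Pr E B Z ψ) {ι κ : Type*} [Finite κ]
    (hc : Nat.card κ < Nat.card ι) (φ : ι → Ω) (h1 : ∀ i, φ i ∈ B) (h2 : ∀ i j, (φ i)⁻¹ * φ j ∈ E → i = j) (χ : Ω → κ)
    (h3 : ∀ z ∈ Z, ∀ z' ∈ Z, χ (ψ z) = χ (ψ z') → (ψ z)⁻¹ * ψ z' ∈ Z) : False := by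
  obtain ⟨β, -, e⟩ := hA.inv ψ hψ
  have i : IsoOn E E ψ β := ⟨hA.hom ψ hψ, hA.maps ψ hψ, fun y hy => by
    obtain ⟨x, hx, rfl⟩ := hA.surj hψ hy
    rwa [(e x hx).1], fun y hy => (e y hy).1, fun y hy => (e y hy).2⟩
  obtain ⟨⟨z, hz, hw⟩, pr⟩ := pr
  have wE := i.maps z (q.ZE hz)
  set D := Z ⊓ img ψ Z
  have hD : D ≤ E := inf_le_left.trans q.ZE
  have mD : ∀ {y}, y ∈ img β D ↔ y ∈ Z ∧ ψ y ∈ Z := fun {y} => by
    rw [i.symm.mem_img_iff hD]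
    exact ⟨fun k => ⟨(i.map_mem_img_iff q.ZE k.1).1 k.2.2, k.2.1⟩, fun k => ⟨q.ZE k.1, k.2, mem_img_of_mem ψ k.1⟩⟩
  have c1 := CxF.card_rel (inf_le_left : D ≤ Z)
  have c2 := CxF.card_rel (fun _ k => (mD.1 k).1 : img β D ≤ Z)
  rw [i.symm.card_img hD, ← c1, mul_right_inj' Nat.card_pos.ne'] at c2
  have nE : ∀ y ∈ E, ∀ d ∈ D, cj y d ∈ D := fun y hy d hd => ⟨q.nrm y hy d hd.1, by
    obtain ⟨x, hx, rfl⟩ := (i.mem_img q.ZE).1 hd.2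
    rw [← i.right y hy, ← i.map_cj (i.maps' y hy) (q.ZE hx)]
    exact mem_img_of_mem ψ (q.nrm _ (i.maps' y hy) x hx)⟩
  have nB : ∀ b ∈ B, ∀ d ∈ D, cj b d ∈ D := fun b hb d hd => by
    have k := q.bZ b hb d hd.1
    obtain ⟨x, hx, hx', k'⟩ := hA.surj' q.iv hψ (q.ZE (q.NZ k)) k
    simpa [cj, commutatorElement_def] using mul_mem (show _ ∈ D from ⟨q.NZ k, k' ▸ mem_img_of_mem ψ (q.NZ hx')⟩) hd
  have c3 : Nat.card ι ≤ D.relIndex Z := Nat.card_le_card_of_injective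
    (fun j => (QuotientGroup.mk ⟨⁅φ j, ψ z⁆, q.bE _ (h1 j) _ wE⟩ : Z ⧸ D.subgroupOf Z)) fun j k e => by
      have k1 := nE _ wE _ (nB _ (inv_mem (h1 j)) _ (nE _ (inv_mem wE) _ ((QuotientGroup.eq (s := D.subgroupOf Z)).1 e)))
      obtain ⟨x, hx, k2⟩ := (i.mem_img q.ZE).1 k1.2
      exact h2 j k (pr z hz hw _ (mul_mem (inv_mem (h1 j)) (h1 k)) x hx (by
        rw [k2]; simp [cj, commutatorElement_def, mul_assoc]))
  have c4 : (img β D).relIndex Z ≤ Nat.card κ := Nat.card_le_card_of_injective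
    (fun x : Z ⧸ (img β D).subgroupOf Z => χ (ψ x.out)) fun x y e => by
      rw [← x.out_eq, ← y.out_eq]
      refine QuotientGroup.eq.2 (mD.2 ⟨(x.out⁻¹ * y.out).2, ?_⟩)
      change ψ ((x.out : Ω)⁻¹ * y.out) ∈ Z
      rw [i.map_mul (inv_mem (q.ZE x.out.2)) (q.ZE y.out.2), i.map_inv (q.ZE x.out.2)]
      exact h3 _ x.out.2 _ y.out.2 e
  exact (c3.trans (c2.ge.trans c4)).not_gt hc

variable {S : Subgroup Ω} [Finite Ω] {F : FusionSystem S} {p : ℕ} [Fact p.Prime]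

theorem stabStep (p : ℕ) (hn : g ∈ normalizer (E : Set Ω)) {X : Subgroup (MulAut E)}
    (h : Ch E {f | ∃ α ∈ X, f = autFun α} g B C) : Relation.ReflTransGen (StabStep p X (cjAut E g hn)) B C :=
  Relation.ReflTransGen.mono (fun _ _ k => .inl ⟨fun α hα => k.1 _ ⟨α, hα, rfl⟩, fun α hα => k.2.1 _ ⟨α, hα, rfl⟩, fun y hy hy' => by
    simpa [autFun_cjAut hn hy, cj, commutatorElement_def, mul_assoc] using inv_mem (k.2.2 _ (inv_mem hy) (inv_mem hy'))⟩) _ _ h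

theorem cp_of_essential (hS : IsPGroup p S) (hF : F.IsSaturated p) (hE : F.IsEssential p E) : Cp S E (fa F E) := by
  have hES : E ≤ S := hE.1.1
  have hc := centralizerIn_le_of_isCentric hE.1
  refine ⟨au_fa F E, hES, (lt_of_essential hS hF hE).not_ge, ⟨_, ⟨1, one_mem _, rfl⟩, fun y hy => autFun_one hy⟩, ?_,
    fun g hg hn k => mem_of_chain hS hc (isRadical_of_essential hS hF hE) hg hn le_top (stabStep p hn k), fun B Z N q => ?_⟩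
  · rintro _ ⟨α, hα, rfl⟩ _ ⟨β, hβ, rfl⟩
    exact ⟨_, ⟨_, mul_mem hα hβ, rfl⟩, fun y hy => autFun_mul _ _ hy⟩
  obtain ⟨H, hH⟩ := exists_relSPE_of_essential hS hF hE
  have hT := sylIn_of_fullyNormalized hS hF hE.2.1
  have hI := autGroup_le_normalizer_inn F E
  have hn : ∀ {b}, b ∈ B → b ∈ normalizer (E : Set Ω) := fun hb => mem_normalizer_of_comm fun y hy => q.ZE (q.bE _ hb y hy)
  have cT : ∀ {b} (hb : b ∈ B), cjAut E b (hn hb) ∈ autInducedBy S E := fun hb => cjAut_mem_autInducedBy (q.le hb) _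
  have cI : ∀ {b} (hb : b ∈ B), b ∉ E → cjAut E b (hn hb) ∉ Inn E := fun hb k => mt (cjAut_mem_inn_iff hES hc (q.le hb) _).1 k
  have bZ : ∀ {b}, b ∈ B → ∀ z ∈ Z, cj b z ∈ Z := fun hb z hz => by
    simpa [cj, commutatorElement_def] using mul_mem (q.NZ (q.bZ _ hb z hz)) hz
  obtain ⟨ψ, ⟨hψ, hψ'⟩, mx⟩ := Set.exists_max_image {γ | γ ∈ F.autGroup E ∧ γ ∉ H}
    (fun γ => {y | y ∈ Z ∧ autFun γ y ∈ Z}.ncard) (Set.toFinite _) (SetLike.exists_of_lt hH.2.1)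
  refine ⟨_, ⟨ψ, hψ, rfl⟩, ?_, fun z hz hw b hb z' hz' e => ?_⟩
  · by_contra! k
    obtain ⟨b, hb, hb'⟩ := SetLike.not_le_iff_exists.1 q.nle
    set X := F.autGroup E ⊓ stabAut E Z
    have st : ∀ {α}, α ∈ F.autGroup E → (∀ z ∈ Z, autFun α z ∈ Z) → α ∈ X := fun {α} hα k => ⟨hα, fun y hy => ⟨fun k' =>
      autFun_inv_autFun α hy ▸ (au_fa F E).mem_of_inv (X := Z) ⟨α, hα, rfl⟩ (fun y hy => autFun_inv_autFun α hy) (fun y _ => k y)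
        (autFun_mem α hy) k', k y⟩⟩
    have iZ : Iv E {f | ∃ α ∈ X, f = autFun α} Z := by rintro _ ⟨γ, hγ, rfl⟩ y hy k; exact (hγ.2 y hy).2 k
    have iN : Iv E {f | ∃ α ∈ X, f = autFun α} N := q.iv.mono fun _ ⟨γ, hγ, e⟩ => ⟨γ, hγ.1, e⟩
    have h1 := mem_pCore_of_chain (hS.to_le hES) (st (hT.le (cT hb)) fun z hz => autFun_cjAut (hn hb) (q.ZE hz) ▸ bZ hb z hz) le_top
      (stabStep p (hn hb) (((Ch.base (CxF.au_of X) iN fun y _ => q.bN b hb y).step iN iZ fun y _ => q.bZ b hb y).step iZ Iv.top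
        fun y hy _ => q.bE b hb y hy))
    refine hψ' (hH.mem_of_isPGroup_pair hT hI (cT hb) (cI hb hb') (cT hb) (cI hb hb') hψ
      ((CL.Fus.isPGroup_map_pCore X).to_le ((closure_le _).2 ?_)))
    rintro _ (rfl | rfl)
    exacts [h1, (mem_normalizer_iff.1 (le_normalizer_map_pCore X (st hψ k)) _).1 h1]
  by_contra hb'
  have ev : ∀ y ∈ E, autFun (ψ⁻¹ * cjAut E b⁻¹ (hn (inv_mem hb)) * ψ⁻¹⁻¹) y = autFun ψ⁻¹ (cj b⁻¹ (autFun ψ y)) := fun y hy => by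
    rw [inv_inv, autFun_mul _ _ hy, autFun_mul _ _ (autFun_mem ψ hy), autFun_cjAut _ (autFun_mem ψ hy)]
  have e1 : autFun ψ (z' * z) = cj b (autFun ψ z) := by
    rw [isHomOn_autFun ψ (q.ZE hz') (q.ZE hz), ← e]; simp [cj, commutatorElement_def]
  refine (mx _ ⟨mul_mem (mul_mem (inv_mem hψ) (hT.le (cT (inv_mem hb)))) (inv_mem (inv_mem hψ)), fun k => hψ' (inv_mem_iff.1
    (hH.mem_of_conj_mem' hT hI (cT (inv_mem hb)) (cI (inv_mem hb) (mt inv_mem_iff.1 hb')) (inv_mem hψ) k))⟩).not_gt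
    (Set.ncard_lt_ncard ⟨fun y ⟨hy, hy'⟩ => ⟨hy, ?_⟩, fun k => hw ?_⟩)
  · have k := q.bZ _ (inv_mem hb) _ hy'
    rw [ev y (q.ZE hy), show cj b⁻¹ (autFun ψ y) = ⁅b⁻¹, autFun ψ y⁆ * autFun ψ y by simp [cj, commutatorElement_def],
      isHomOn_autFun _ (q.ZE (q.NZ k)) (q.ZE hy'), autFun_inv_autFun ψ (q.ZE hy)]
    exact mul_mem (q.NZ (q.iv _ ⟨_, inv_mem hψ, rfl⟩ _ (q.ZE (q.NZ k)) k)) hy
  · have := (k (show z' * z ∈ {y | y ∈ Z ∧ _} from ⟨mul_mem hz' hz, by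
      rwa [ev _ (q.ZE (mul_mem hz' hz)), e1, cj_inv_cj, autFun_inv_autFun ψ (q.ZE hz)]⟩)).2
    simpa only [e1, cj_inv_cj] using bZ (inv_mem hb) _ this

/-- `P ⊴ S` centric, `X ⊴ S`. If every `s ∈ S` stabilises a chain invariant under the automorphisms of `P` that leave `X ⊓ P` invariant,
these extend to `S`. -/
theorem ext_of_chain (hS : IsPGroup p S) (hF : F.IsSaturated p) (hP : F.IsCentric P) (hn : S ≤ normalizer (P : Set Ω))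
    {X : Subgroup Ω} (hX : S ≤ normalizer (X : Set Ω))
    (h : ∀ A, Au P A → Iv P A X → ∀ s ∈ S, Ch P A s ⊥ ⊤) {f : Ω → Ω} (hf : Mor F P f) (h1 : ∀ x ∈ P, f x ∈ P)
    (h2 : ∀ x ∈ P, x ∈ X → f x ∈ X) : ∃ g, Mor F S g ∧ Set.EqOn g f P := by
  obtain ⟨α, hα, e⟩ := hf.exists_aut (hf.img_eq_self h1)
  have hT := sylIn_of_fullyNormalized hS hF (fullyNormalized_of_normal F hP.1 hn)
  set N := F.autGroup P ⊓ stabAut P X with hN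
  have hαN : α ∈ N := ⟨hα, fun x hx => e hx ▸ ⟨fun k => by
    have h3 : img f (P ⊓ X) = P ⊓ X := (hf.mono inf_le_left).img_eq_self fun y hy => ⟨h1 y hy.1, h2 y hy.1 hy.2⟩
    exact ((hf.mem_img_iff inf_le_left hx).1 (h3.symm ▸ ⟨h1 x hx, k⟩)).2, h2 x hx⟩⟩
  have hTN : autInducedBy S P ≤ N := le_inf hT.le fun β hβ x hx => by
    obtain ⟨s, hs, e'⟩ := mem_autInducedBy_iff.1 hβ
    rw [e' hx]
    exact (mem_normalizer_iff.1 (hX hs) x).symm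
  have hO := hT.eq_of_le ((CL.Fus.map_pCore_le N).trans inf_le_left) (CL.Fus.isPGroup_map_pCore N) fun β hβ => by
    obtain ⟨s, hs, hs', rfl⟩ := mem_autInducedBy_iff_cjAut.1 hβ
    exact mem_pCore_of_chain (hS.to_le hP.1) (hTN hβ) le_top
      (stabStep p hs' (h _ (CxF.au_of N) (by rintro _ ⟨γ, hγ, rfl⟩ y hy k; exact (hγ.2 y hy).2 k) s hs))
  have h3 := le_normalizer_map_pCore (p := p) N hαN
  rw [hO] at h3
  obtain ⟨g, hg, e'⟩ := exists_extend_of_isCentric hS hF (mor_autFun hP.1 hα) hP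
  exact ⟨g, hg.mono fun s hs => (mem_Nphi_autFun_iff hP.1 hα).2 ⟨hs, hn hs,
    (mem_normalizer_iff.1 h3 _).1 (cjAut_mem_autInducedBy hs (hn hs))⟩, e'.trans e⟩

end CL.U5
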