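/-
General tools for fusion systems with two essential subgroups, any prime.
-/
import Cfsg.Agent.FUS.U5.Pair
import Cfsg.Agent.SOLV.Coprime
import Cfsg.Agent.FUS.Alperin
import Cfsg.Agent.FUS.Iso

set_option autoImplicit false
set_option linter.unusedSectionVars false

namespace CL.U5

open CL.Fus CL.RF4 Subgroup Cfsg Cfsg.FusionSystem
open scoped commutatorElement Pointwise

variable {G : Type*} [Group G] [Finite G] {p : ℕ} [Fact p.Prime] {F F' : FusionSystem (⊤ : Subgroup G)} {P X Y : Subgroup G}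

theorem au_pair {f f' : G → G} (h : IsoOn P P f f') : Au P {f, f'} :=
  ⟨by rintro _ (rfl | rfl); exacts [h.hom, h.hom'], by rintro _ (rfl | rfl); exacts [h.maps, h.maps'], by
    rintro _ (rfl | rfl)
    exacts [⟨f', Or.inr rfl, fun y hy => ⟨h.left y hy, h.right y hy⟩⟩, ⟨f, Or.inl rfl, fun y hy => ⟨h.right y hy, h.left y hy⟩⟩]⟩

theorem iv_pair {f f' : G → G} (h : IsoOn P P f f') (hX : ∀ x ∈ P, x ∈ X → f x ∈ X) : Ivs P {f, f'} X := by
  rintro _ (rfl | rfl) y hy hy'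
  exacts [hX y hy hy', (au_pair h).mem_of_inv (Or.inl rfl) h.left hX hy hy']

theorem iff_of_iv {f f' : G → G} (h : IsoOn P P f f') {W : Set G} (hW : Iv P {f, f'} W) {y : G} (hy : y ∈ P) : f y ∈ W ↔ y ∈ W :=
  ⟨fun k => h.left y hy ▸ hW f' (Or.inr rfl) _ (h.maps y hy) k, hW f (Or.inl rfl) y hy⟩

theorem isoOn_top (α : MulAut G) : IsoOn ⊤ ⊤ α α.symm :=
  ⟨fun _ _ _ _ => map_mul α _ _, fun _ _ => trivial, fun _ _ => trivial, fun x _ => α.symm_apply_apply x,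
    fun x _ => α.apply_symm_apply x⟩

theorem isoOn_cj [P.Normal] (s : G) : IsoOn P P (cj s) (cj s⁻¹) :=
  ⟨isHomOn_cj P s, fun x hx => Normal.conj_mem inferInstance x hx s, fun x hx => Normal.conj_mem inferInstance x hx s⁻¹,
    fun _ _ => cj_inv_cj .., fun _ _ => cj_cj_inv ..⟩

theorem mor_cj' (F : FusionSystem (⊤ : Subgroup G)) (P : Subgroup G) (s : G) : Mor F P (cj s) := mor_cj F le_top trivial

theorem exists_isoOn {f : G → G} (hf : Mor F P f) (h1 : ∀ x ∈ P, f x ∈ P) : ∃ f', Mor F P f' ∧ IsoOn P P f f' := by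
  obtain ⟨g, h, h'⟩ := hf.exists_isoOn
  rw [hf.img_eq_self h1] at h h'
  exact ⟨g, h', h⟩

theorem exists_move (hG : IsPGroup p (⊤ : Subgroup G)) (hF : F.IsSaturated p) (hE : F.IsEssential p P)
    (h : ∀ f, Mor F P f → (∀ x ∈ P, f x ∈ P) → (∀ x ∈ X, f x ∈ X) → ∃ g, Mor F ⊤ g ∧ Set.EqOn g f P) :
    ∃ f f', Mor F P f ∧ Mor F P f' ∧ IsoOn P P f f' ∧ ¬ ∀ x ∈ X, f x ∈ X := by
  obtain ⟨α, hα, hα'⟩ := SetLike.exists_of_lt (extAut_lt_of_essential hG hF hE)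
  refine ⟨_, _, mor_autFun le_top hα, mor_autFun le_top (inv_mem hα), isoOn_autFun α, fun k => hα' ?_⟩
  obtain ⟨g, hg, e⟩ := h _ (mor_autFun le_top hα) (fun x hx => autFun_mem α hx) k
  exact mem_extAut (lt_of_essential hG hF hE) hg e

theorem swap_inv {w w' : G → G} (h : IsoOn P P w w') (hX : X ≤ P) (hY : Y ≤ P) (h1 : ∀ x ∈ X, w x ∈ Y)
    (h2 : ∀ x ∈ Y, w x ∈ X) : ∀ x ∈ X, w' x ∈ Y := fun x hx => by
  obtain ⟨y, hy, rfl⟩ := ((Set.toFinite (X : Set G)).injOn_iff_bijOn_of_mapsTo (f := w ∘ w) fun x hx => h2 _ (h1 x hx)).1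
    (fun a ha b hb e => h.injOn (hX ha) (hX hb) (h.injOn (hY (h1 a ha)) (hY (h1 b hb)) e)) |>.surjOn hx
  rw [Function.comp, h.left _ (hY (h1 y hy))]
  exact h1 y hy

/-- one step of the comparison of two systems -/
theorem mor_of_gen [P.Normal] (h : ∀ f, Mor F ⊤ f → Mor F' ⊤ f) {f w : G → G} (hf : Mor F P f) (m : ∀ x ∈ P, f x ∈ P)
    (hw : Mor F P w) (hw' : Mor F' P w) (i : IsoOn P P w w)
    (ex : ∀ f, Mor F P f → (∀ x ∈ P, f x ∈ P) → (∀ x ∈ X, f x ∈ X) → ∃ g, Mor F ⊤ g ∧ Set.EqOn g f P)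
    (k : (∀ x ∈ X, f x ∈ X) ∨ ∃ s, ∀ x ∈ X, w (cj s (f x)) ∈ X) : Mor F' P f := by
  rcases k with k | ⟨s, k⟩
  · obtain ⟨g, hg, e⟩ := ex f hf m k
    exact ((h g hg).mono le_top).congr e
  have m1 : ∀ x ∈ P, cj s (f x) ∈ P := fun x hx => (isoOn_cj s).maps _ (m x hx)
  obtain ⟨g, hg, e⟩ := ex _ (hw.comp (hf.cj_comp (s := s) trivial) m1) (fun x hx => i.maps _ (m1 x hx)) k
  refine ((hw'.comp (((h g hg).mono le_top).congr e) fun x hx => i.maps _ (m1 x hx)).cj_comp (s := s⁻¹) trivial).congr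
    fun x hx => ?_
  simp only [Function.comp, i.left _ (m1 x hx), cj_inv_cj]

variable {D : Type*} [Group D] [Finite D]

/-- if `w` normalises `Inn(P) Ψ` then an element of `Inn(P) w` normalises the `p'`-group `Ψ` -/
theorem exists_norm (δ : D →* MulAut G) (Ψ : Subgroup D) (hp : ¬ p ∣ Nat.card Ψ) (hP : IsPGroup p P)
    (hD : ∀ x, ∀ g ∈ P, δ x g ∈ P) {w w' : G → G} (h : IsoOn P P w w')
    (hs : ∀ x ∈ Ψ, ∃ u ∈ P, ∃ x' ∈ Ψ, ∀ g ∈ P, w (δ x g) = cj u (δ x' (w g))) :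
    ∃ u ∈ P, ∀ x ∈ Ψ, ∃ x' ∈ Ψ, ∀ g ∈ P, cj u (w (δ x g)) = δ x' (cj u (w g)) := by
  let res : Ψ →* MulAut P := MonoidHom.mk' (fun α => IsoOn.equiv (e := δ α.1) (e' := δ α.1⁻¹) ⟨fun x _ y _ => map_mul _ x y, hD _, hD _,
    fun x _ => by simp, fun x _ => by simp⟩) fun _ _ => MulEquiv.ext fun x => Subtype.ext (by
      change δ _ _ = δ _ (δ _ _)
      simp)
  have cj1 : ∀ (α : MulAut P) x, α * MulAut.conj x * α⁻¹ = MulAut.conj (α x) := fun α x => MulEquiv.ext fun y => by simp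
  have : (MulAut.conj (G := P)).range.Normal := ⟨by rintro _ ⟨x, rfl⟩ α; exact ⟨_, (cj1 α x).symm⟩⟩
  have h2 : IsPGroup p (MulAut.conj (G := P)).range := hP.of_surjective _ (MonoidHom.rangeRestrict_surjective _)
  have := h2.isNilpotent
  obtain ⟨n, hn⟩ := h2.exists_card_eq
  obtain ⟨_, ⟨x, rfl⟩, hx⟩ := coprime_le_conj (res.range.map (MulAut.conj h.equiv).toMonoidHom) (MulAut.conj (G := P)).range res.range
    le_normalizer_of_normal (hn ▸ Nat.Coprime.pow_right _ ((Nat.Prime.coprime_iff_not_dvd Fact.out).2 fun k =>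
      hp (k.trans ((card_map_dvd _ _).trans (card_range_dvd _)))).symm) (Or.inr inferInstance) (by
      rintro _ ⟨_, ⟨⟨t, hd⟩, rfl⟩, rfl⟩
      obtain ⟨u, hu, t', hd', e⟩ := hs t hd
      refine ⟨_, ⟨⟨u, hu⟩, rfl⟩, _, ⟨⟨t', hd'⟩, rfl⟩, MulEquiv.ext fun g => Subtype.ext ?_⟩
      exact (e _ (h.maps' g g.2)).trans (by rw [h.right g g.2]; rfl))
  refine ⟨x⁻¹, inv_mem x.2, fun t hd => ?_⟩
  obtain ⟨_, ⟨⟨t', hd'⟩, rfl⟩, e⟩ := hx ⟨_, ⟨⟨t, hd⟩, rfl⟩, rfl⟩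
  refine ⟨t', hd', fun g hg => ?_⟩
  have k : cj (x : G) (δ t' (cj (x : G)⁻¹ (w g))) = w (δ t (w' (w g))) := by
    have := congrArg (fun α : MulAut P => (α ⟨w g, h.maps g hg⟩ : G)) e
    rw [cj_apply _ (w g), inv_inv]
    exact this
  rw [h.left g hg] at k
  rw [← k, cj_inv_cj]

/-- if `Aut(S) = K₀ δ(D)` with a normal `p`-subgroup `K₀`, a conjugate of `F` has `Aut_F(S) ≤ Inn(S) δ(D)` -/
theorem exists_std_of (hG : IsPGroup p (⊤ : Subgroup G)) (hF : F.IsSaturated p) (δ : D →* MulAut G) (K₀ : Subgroup (MulAut G)) [K₀.Normal]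
    (hK : IsPGroup p K₀) (hδ : ∀ α, ∃ x, α * (δ x)⁻¹ ∈ K₀) :
    ∃ (β : MulAut G) (F' : FusionSystem (⊤ : Subgroup G)), Corr β β.symm F F' ∧ ∀ f, Mor F' ⊤ f → ∃ u x, ∀ g, f g = cj u (δ x g) := by
  have hS := sylIn_inn_top hG hF
  have hN : ((Inn (⊤ : Subgroup G)).subgroupOf (F.autGroup ⊤)).Normal := inferInstance
  have h2 : (Nat.card ((Inn (⊤ : Subgroup G)).subgroupOf (F.autGroup ⊤))).Coprime
      ((Inn (⊤ : Subgroup G)).subgroupOf (F.autGroup ⊤)).index := by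
    obtain ⟨n, hn⟩ := ((isPGroup_subgroupOf_iff hS.le).2 hS.isPGroup).exists_card_eq
    rw [hn]
    exact ((Nat.Prime.coprime_iff_not_dvd Fact.out).2 hS.not_dvd_relIndex).pow_left _
  obtain ⟨H, hH⟩ := exists_right_complement'_of_coprime h2
  let c : F.autGroup ⊤ →* MulAut G := (MulAut.congr topEquiv).toMonoidHom.comp (Subgroup.subtype _)
  have hc : ∀ (γ : F.autGroup ⊤) g, c γ g = autFun γ.1 g := fun γ g => (autFun_of_mem γ.1 (mem_top g)).symm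
  obtain ⟨k, -, hk⟩ := coprime_le_conj (H.map c) K₀ δ.range le_normalizer_of_normal (by
    obtain ⟨n, hn⟩ := hK.exists_card_eq
    rw [hn]
    exact (((Nat.Prime.coprime_iff_not_dvd Fact.out).2 fun k => hS.not_dvd_relIndex
      ((k.trans (card_map_dvd H c)).trans hH.symm.index_eq_card.symm.dvd)).pow_left _).symm)
    (Or.inr (have := hK.isNilpotent; inferInstance)) fun α _ => by
      obtain ⟨t, e⟩ := hδ α
      exact ⟨_, e, _, ⟨t, rfl⟩, by simp⟩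
  obtain ⟨F', hF'⟩ := (isoOn_top k⁻¹).exists_corr F
  refine ⟨_, F', hF', fun f hf => ?_⟩
  have h1 := hF'.mor' hf
  rw [hF'.iso.symm.img_eq] at h1
  obtain ⟨γ, hγ, e⟩ := h1.exists_aut h1.img_top
  obtain ⟨⟨n, h⟩, e'⟩ := (hH.existsUnique ⟨γ, hγ⟩).exists
  obtain ⟨u, -, hu⟩ := mem_inn_iff.1 n.2
  obtain ⟨_, ⟨t, rfl⟩, e2⟩ := (mem_smul_pointwise_iff_exists ..).1 (hk (mem_map_of_mem c h.2))
  refine ⟨k⁻¹ u, t, fun g => ?_⟩
  have e3 := e (x := k g) trivial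
  rw [show γ = n.1.1 * h.1.1 from (congrArg Subtype.val e').symm, autFun_mul _ _ (mem_top _), ← hc h.1, ← e2,
    show autFun n.1.1 _ = _ from hu (mem_top _)] at e3
  apply k.injective
  simpa [cj, eq_comm] using e3

/-- a group of `F`-automorphisms of `S` meeting `Inn(S)` trivially is a `p'`-group -/
theorem not_dvd_of (hG : IsPGroup p (⊤ : Subgroup G)) (hF : F.IsSaturated p) (δ : D →* MulAut G) (Ψ : Subgroup D)
    (h1 : ∀ x ∈ Ψ, Mor F ⊤ (δ x)) (h2 : ∀ x u, (∀ g, δ x g = cj u g) → x = 1) : ¬ p ∣ Nat.card Ψ := fun h => by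
  obtain ⟨⟨x, hx⟩, ho⟩ := exists_prime_orderOf_dvd_card' (G := Ψ) p h
  rw [Subgroup.orderOf_mk] at ho
  have hS := sylIn_inn_top hG hF
  obtain ⟨γ, hγ, e⟩ := (h1 x hx).exists_aut (h1 x hx).img_top
  have e1 : γ = (MulAut.congr topEquiv).symm (δ x) := MulEquiv.ext fun g => Subtype.ext ((autFun_coe γ g).symm.trans (e g.2))
  have e2 : γ ^ p ^ 1 = 1 := by rw [e1, ← map_pow, ← map_pow, pow_one, ← ho, pow_orderOf_eq_one, map_one, map_one]
  obtain ⟨u, -, hu⟩ := mem_inn_iff.1 (hS.le_of_le_normalizer' (zpowers_le.2 hγ) (isPGroup_zpowers_of_pow_eq_one e2)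
    (zpowers_le.2 (autGroup_le_normalizer_inn F ⊤ hγ)) (mem_zpowers γ))
  rw [h2 x u fun g => (e trivial).symm.trans (hu trivial), orderOf_one] at ho
  exact (Fact.out : p.Prime).one_lt.ne ho

end CL.U5
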