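/-
S5258: the Sylow `p`-subgroup of `SU₅(q)` in coordinates. `U σ` consists of the unitriangular matrices with rows
`(1, a, d, f, e)`, `(0, 1, b, c, -σf - σa c - σd b)`, `(0, 0, 1, -σb, σa σb - σd)`, `(0, 0, 0, 1, -σa)` preserving the antidiagonal form.
-/
import Cfsg.Agent.FUS.RF4.Cx

set_option autoImplicit false
set_option linter.unusedSimpArgs false
set_option linter.unusedSectionVars false

namespace CL.U5

open Subgroup
open scoped commutatorElement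

/-- `σ` is an involution with surjective norm -/
class Un {K : Type*} [Field K] (σ : K →+* K) : Prop where
  sq : ∀ x, σ (σ x) = x
  ne : ∃ x, σ x ≠ x
  nrm : ∀ c, σ c = c → ∃ x, x * σ x = c

variable {K : Type*} [Field K] {σ : K →+* K} [T : Un σ]

namespace Un

variable (σ)

/-- an element outside the fixed field -/
noncomputable def θ : K := T.ne.choose

theorem θ_ne : σ (θ σ) ≠ θ σ := T.ne.choose_spec

theorem θ_sub : θ σ - σ (θ σ) ≠ 0 := sub_ne_zero.2 (θ_ne σ).symm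

theorem θ_ne_zero : θ σ ≠ 0 := fun e => θ_ne σ (by rw [e, map_zero])

theorem θ_ne_one : θ σ ≠ 1 := fun e => θ_ne σ (by rw [e, map_one])

theorem exists_τ : ∃ t : K, t + σ t = 1 := by
  obtain ⟨x, hx⟩ : ∃ x : K, x + σ x ≠ 0 := by
    by_contra! h
    have h1 := h 1
    have h2 := h (θ σ)
    rw [map_one] at h1
    exact θ_ne σ (by linear_combination h2 - θ σ * h1)
  exact ⟨x / (x + σ x), by rw [map_div₀, map_add, T.sq, add_comm (σ x), ← add_div, div_self hx]⟩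

/-- an element of trace `1` -/
noncomputable def τ : K := (exists_τ σ).choose

theorem τ_eq : σ (τ σ) = 1 - τ σ := eq_sub_of_add_eq' (exists_τ σ).choose_spec

variable {σ}

theorem lin_ind {x y : K} (h : ∀ a, x * a = y * σ a) : x = 0 ∧ y = 0 := by
  have h1 := h 1
  have h2 := h (θ σ)
  rw [map_one, mul_one, mul_one] at h1
  have : x = 0 := (mul_eq_zero.1 (show x * (θ σ - σ (θ σ)) = 0 by rw [← h1] at h2; linear_combination h2)).resolve_right (θ_sub σ)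
  exact ⟨this, h1 ▸ this⟩

/-- `1, θ` is a basis over the fixed field -/
theorem decomp (a : K) : ∃ c c', σ c = c ∧ σ c' = c' ∧ a = c + c' * θ σ := by
  have h := θ_sub σ
  have h' : σ (θ σ) - θ σ ≠ 0 := sub_ne_zero.2 (θ_ne σ)
  refine ⟨(σ a * θ σ - a * σ (θ σ)) / (θ σ - σ (θ σ)), (a - σ a) / (θ σ - σ (θ σ)), ?_, ?_, ?_⟩ <;>
    (try simp only [map_div₀, map_sub, map_mul, T.sq]) <;> field_simp <;> ring

/-- `x ↦ l x - σ (l x)` is onto the elements of trace zero -/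
theorem exists_sub {l k : K} (hl : l ≠ 0) (hk : k + σ k = 0) : ∃ x, l * x - σ l * σ x = k :=
  ⟨τ σ * k / l, by
    have : σ l ≠ 0 := (map_ne_zero σ).2 hl
    rw [map_div₀, map_mul, τ_eq, show σ k = -k by linear_combination hk]; field_simp; ring⟩

theorem eq_zero_of_real {l : K} (h : ∀ x, l * x = σ l * σ x) : l = 0 := (lin_ind h).1

theorem norm_eq_zero {x : K} (h : x * σ x = 0) : x = 0 := by simpa using h

theorem h90 {c : K} (h : c * σ c = 1) : ∃ x, x ≠ 0 ∧ σ x = c * x := by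
  obtain ⟨y, hy⟩ : ∃ y, y + σ c * σ y ≠ 0 := by
    by_contra! k
    exact one_ne_zero (lin_ind (x := 1) (y := -σ c) fun a => by linear_combination k a).1
  exact ⟨_, hy, by simp only [map_add, map_mul, T.sq]; linear_combination (-σ y) * h⟩

theorem exists_norm_one : ∃ s : K, s ≠ 1 ∧ s * σ s = 1 := by
  have h := θ_ne_zero σ
  have h' : σ (θ σ) ≠ 0 := (map_ne_zero σ).2 h
  exact ⟨θ σ / σ (θ σ), fun e => θ_ne σ ((div_eq_one_iff_eq h').1 e).symm, by rw [map_div₀, T.sq]; field_simp⟩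

theorem exists_cube : ∃ s : K, s ≠ 0 ∧ s ^ 3 ≠ σ s ^ 2 := by
  by_contra! h
  have n : ∀ s : K, s ≠ 0 → s * σ s = 1 := fun s hs => by
    have h1 := h s hs
    have h2 := congrArg σ h1
    simp only [map_pow, T.sq] at h2
    exact mul_left_cancel₀ (pow_ne_zero 2 (mul_ne_zero hs ((map_ne_zero σ).2 hs))) (by linear_combination σ s ^ 3 * h1 + σ s ^ 2 * h2)
  have h0 := θ_ne σ
  have h1 := n _ (θ_ne_zero σ)
  have h2 := n (θ σ + 1) fun e => h0 (by rw [show θ σ = -1 by linear_combination e]; simp)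
  have h3 := h _ (θ_ne_zero σ)
  simp only [map_add, map_one] at h2
  generalize σ (θ σ) = y at *
  grind

/-- the fixed field as a type -/
abbrev Fix (σ : K →+* K) := {x : K // σ x = x}

theorem card_lt [Finite K] : Nat.card (Fix σ) < Nat.card K := Finite.card_subtype_lt (θ_ne σ)

theorem card_lt' [Finite K] : Nat.card (Fix σ) < Nat.card (Fix σ × Fix σ) := by
  have : Nontrivial (Fix σ) := ⟨⟨⟨0, map_zero σ⟩, ⟨1, map_one σ⟩, by simp⟩⟩
  have := Finite.one_lt_card (α := Fix σ)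
  rw [Nat.card_prod]; nlinarith

end Un

open Un

/-- the Sylow subgroup -/
@[ext] structure U (σ : K →+* K) where
  a : K
  b : K
  c : K
  d : K
  f : K
  e : K
  h1 : c + σ c + b * σ b = 0
  h2 : e + σ e + a * σ f + σ a * f + d * σ d = 0

namespace U

instance : One (U σ) := ⟨⟨0, 0, 0, 0, 0, 0, by simp, by simp⟩⟩

instance : Mul (U σ) := ⟨fun x y => ⟨x.a + y.a, x.b + y.b, x.c + y.c - x.b * σ y.b, x.d + y.d + x.a * y.b,
  x.f + y.f + x.a * y.c - x.d * σ y.b,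
  x.e + y.e - x.a * (σ y.f + σ y.a * y.c + σ y.d * y.b) + x.d * (σ y.a * σ y.b - σ y.d) - x.f * σ y.a, by
    simp only [map_add, map_sub, map_mul, T.sq]
    linear_combination x.h1 + y.h1, by
    simp only [map_add, map_sub, map_mul, T.sq]
    linear_combination x.h2 + y.h2 + (x.a * σ x.a) * y.h1⟩⟩

instance : Inv (U σ) := ⟨fun x => ⟨-x.a, -x.b, σ x.c, x.a * x.b - x.d, -(x.f + x.a * σ x.c + σ x.b * x.d), σ x.e, by
    simp only [map_neg, T.sq]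
    linear_combination x.h1, by
    simp only [map_add, map_sub, map_mul, map_neg, T.sq]
    linear_combination x.h2 + (x.a * σ x.a) * x.h1⟩⟩

variable (x y : U σ)

@[simp] theorem one_a : (1 : U σ).a = 0 := rfl
@[simp] theorem one_b : (1 : U σ).b = 0 := rfl
@[simp] theorem one_c : (1 : U σ).c = 0 := rfl
@[simp] theorem one_d : (1 : U σ).d = 0 := rfl
@[simp] theorem one_f : (1 : U σ).f = 0 := rfl
@[simp] theorem one_e : (1 : U σ).e = 0 := rfl
theorem mul_a : (x * y).a = x.a + y.a := rfl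
theorem mul_b : (x * y).b = x.b + y.b := rfl
theorem mul_c : (x * y).c = x.c + y.c - x.b * σ y.b := rfl
theorem mul_d : (x * y).d = x.d + y.d + x.a * y.b := rfl
theorem mul_f : (x * y).f = x.f + y.f + x.a * y.c - x.d * σ y.b := rfl
theorem mul_e : (x * y).e =
    x.e + y.e - x.a * (σ y.f + σ y.a * y.c + σ y.d * y.b) + x.d * (σ y.a * σ y.b - σ y.d) - x.f * σ y.a := rfl
theorem inv_a : x⁻¹.a = -x.a := rfl
theorem inv_b : x⁻¹.b = -x.b := rfl
theorem inv_c : x⁻¹.c = σ x.c := rfl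
theorem inv_d : x⁻¹.d = x.a * x.b - x.d := rfl
theorem inv_f : x⁻¹.f = -(x.f + x.a * σ x.c + σ x.b * x.d) := rfl
theorem inv_e : x⁻¹.e = σ x.e := rfl

theorem σc : σ x.c = -x.c - x.b * σ x.b := by linear_combination x.h1

theorem σe : σ x.e = -x.e - x.a * σ x.f - σ x.a * x.f - x.d * σ x.d := by linear_combination x.h2

end U

/-- expands products, inverses, commutators and conjugates into coordinates; eliminates `σ x.c`, `σ x.e` -/
scoped macro "usimp" loc:(Lean.Parser.Tactic.location)? : tactic => `(tactic| simp only [U.ext_iff, commutatorElement_def, CL.Fus.cj,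
  U.one_a, U.one_b, U.one_c, U.one_d, U.one_f, U.one_e, U.mul_a, U.mul_b, U.mul_c, U.mul_d, U.mul_f, U.mul_e,
  U.inv_a, U.inv_b, U.inv_c, U.inv_d, U.inv_f, U.inv_e, map_add, map_sub, map_mul, map_neg, map_zero, map_one, Un.sq, U.σc, U.σe] $[$loc]?)

namespace U

instance : Group (U σ) := Group.ofLeftAxioms
  (fun x y z => by usimp; refine ⟨?_, ?_, ?_, ?_, ?_, ?_⟩ <;> ring) (fun x => by usimp; simp)
  (fun x => by usimp; refine ⟨?_, ?_, ?_, ?_, ?_, ?_⟩ <;> ring)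

instance [Finite K] : Finite (U σ) := Finite.of_injective (fun x : U σ => (x.a, x.b, x.c, x.d, x.f, x.e)) fun x y h => by
  simpa [U.ext_iff] using h

/-- an element with prescribed `a, b, d, f` -/
@[simps] noncomputable def el (a b d f : K) : U σ :=
  ⟨a, b, -(τ σ * (b * σ b)), d, f, -(τ σ * (a * σ f + σ a * f + d * σ d)), by
    simp only [map_neg, map_mul, T.sq, τ_eq]; ring, by simp only [map_neg, map_mul, map_add, T.sq, τ_eq]; ring⟩

/-- the root element for `a` -/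
@[simps] def xa (a : K) : U σ := ⟨a, 0, 0, 0, 0, 0, by simp, by simp⟩

/-- the root element for `b, c` -/
@[simps] def yb (b c : K) (h : c + σ c + b * σ b = 0) : U σ := ⟨0, b, c, 0, 0, 0, h, by simp⟩

/-- the root element for `f` -/
@[simps] def xf (f : K) : U σ := ⟨0, 0, 0, 0, f, 0, by simp, by simp⟩

/-- the root element for `c` -/
@[simps] def zc (c : K) (h : c + σ c = 0) : U σ := ⟨0, 0, c, 0, 0, 0, by simpa using h, by simp⟩

/-- the root element for `e` -/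
@[simps] def ze (e : K) (h : e + σ e = 0) : U σ := ⟨0, 0, 0, 0, 0, e, by simp, by simpa using h⟩

end U

open U

/-- `Z(S)` -/
def sZ : Subgroup (U σ) where
  carrier := {g | g.a = 0 ∧ g.b = 0 ∧ g.c = 0 ∧ g.d = 0 ∧ g.f = 0}
  one_mem' := by simp
  mul_mem' ha hb := by simp only [Set.mem_ofPred_eq] at *; usimp; simp [ha, hb]
  inv_mem' ha := by simp only [Set.mem_ofPred_eq] at *; usimp; simp [ha]

/-- `Z₂(S)` -/
def sZ2 : Subgroup (U σ) where
  carrier := {g | g.a = 0 ∧ g.b = 0 ∧ g.c = 0 ∧ g.d = 0}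
  one_mem' := by simp
  mul_mem' ha hb := by simp only [Set.mem_ofPred_eq] at *; usimp; simp [ha, hb]
  inv_mem' ha := by simp only [Set.mem_ofPred_eq] at *; usimp; simp [ha]

/-- `Z(Q₂)` -/
def sV : Subgroup (U σ) where
  carrier := {g | g.a = 0 ∧ g.b = 0 ∧ g.d = 0}
  one_mem' := by simp
  mul_mem' ha hb := by simp only [Set.mem_ofPred_eq] at *; usimp; simp [ha, hb]
  inv_mem' ha := by simp only [Set.mem_ofPred_eq] at *; usimp; simp [ha]

/-- `Q₁ ⊓ Φ` -/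
def sY : Subgroup (U σ) where
  carrier := {g | g.a = 0 ∧ g.b = 0 ∧ g.c = 0}
  one_mem' := by simp
  mul_mem' ha hb := by simp only [Set.mem_ofPred_eq] at *; usimp; simp [ha, hb]
  inv_mem' ha := by simp only [Set.mem_ofPred_eq] at *; usimp; simp [ha]

/-- `Φ(S) = S' = Z₃(S)` -/
def sPh : Subgroup (U σ) where
  carrier := {g | g.a = 0 ∧ g.b = 0}
  one_mem' := by simp
  mul_mem' ha hb := by simp only [Set.mem_ofPred_eq] at *; usimp; simp [ha, hb]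
  inv_mem' ha := by simp only [Set.mem_ofPred_eq] at *; usimp; simp [ha]

/-- `Q₁ = q ^ (1 + 6)` -/
def Q1 : Subgroup (U σ) where
  carrier := {g | g.b = 0 ∧ g.c = 0}
  one_mem' := by simp
  mul_mem' ha hb := by simp only [Set.mem_ofPred_eq] at *; usimp; simp [ha, hb]
  inv_mem' ha := by simp only [Set.mem_ofPred_eq] at *; usimp; simp [ha]

/-- `Q₁ V` -/
def sP : Subgroup (U σ) where
  carrier := {g | g.b = 0}
  one_mem' := by simp
  mul_mem' ha hb := by simp only [Set.mem_ofPred_eq] at *; usimp; simp [ha, hb]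
  inv_mem' ha := by simp only [Set.mem_ofPred_eq] at *; usimp; simp [ha]

/-- `Q₂ = q ^ (4 + 4)` -/
def Q2 : Subgroup (U σ) where
  carrier := {g | g.a = 0}
  one_mem' := by simp
  mul_mem' ha hb := by simp only [Set.mem_ofPred_eq] at *; usimp; simp [ha, hb]
  inv_mem' ha := by simp only [Set.mem_ofPred_eq] at *; usimp; simp [ha]

/-- the point of `Q₁ / Z` opposite to `Z₂` -/
def sX : Subgroup (U σ) where
  carrier := {g | g.b = 0 ∧ g.c = 0 ∧ g.d = 0 ∧ g.f = 0}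
  one_mem' := by simp
  mul_mem' ha hb := by simp only [Set.mem_ofPred_eq] at *; usimp; simp [ha, hb]
  inv_mem' ha := by simp only [Set.mem_ofPred_eq] at *; usimp; simp [ha]

/-- the line of `Q₂ / V` opposite to `Φ` -/
def sL : Subgroup (U σ) where
  carrier := {g | g.a = 0 ∧ g.d = 0}
  one_mem' := by simp
  mul_mem' ha hb := by simp only [Set.mem_ofPred_eq] at *; usimp; simp [ha, hb]
  inv_mem' ha := by simp only [Set.mem_ofPred_eq] at *; usimp; simp [ha]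

variable {g h : U σ}

theorem mem_sZ : g ∈ sZ ↔ g.a = 0 ∧ g.b = 0 ∧ g.c = 0 ∧ g.d = 0 ∧ g.f = 0 := Iff.rfl
theorem mem_sZ2 : g ∈ sZ2 ↔ g.a = 0 ∧ g.b = 0 ∧ g.c = 0 ∧ g.d = 0 := Iff.rfl
theorem mem_sV : g ∈ sV ↔ g.a = 0 ∧ g.b = 0 ∧ g.d = 0 := Iff.rfl
theorem mem_sY : g ∈ sY ↔ g.a = 0 ∧ g.b = 0 ∧ g.c = 0 := Iff.rfl
theorem mem_sPh : g ∈ sPh ↔ g.a = 0 ∧ g.b = 0 := Iff.rfl
theorem mem_Q1 : g ∈ Q1 ↔ g.b = 0 ∧ g.c = 0 := Iff.rfl
theorem mem_sP : g ∈ sP ↔ g.b = 0 := Iff.rfl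
theorem mem_Q2 : g ∈ Q2 ↔ g.a = 0 := Iff.rfl
theorem mem_sX : g ∈ sX ↔ g.b = 0 ∧ g.c = 0 ∧ g.d = 0 ∧ g.f = 0 := Iff.rfl
theorem mem_sL : g ∈ sL ↔ g.a = 0 ∧ g.d = 0 := Iff.rfl

/-- membership in the named subgroups; coordinates of the root elements -/
scoped macro "msimp" loc:(Lean.Parser.Tactic.location)? : tactic => `(tactic| simp only [SetLike.mem_coe, mem_sZ, mem_sZ2, mem_sV,
  mem_sY, mem_sPh, mem_Q1, mem_sP, mem_Q2, mem_sX, mem_sL] $[$loc]?)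

instance : (sZ (σ := σ)).Normal := ⟨fun x hx s => by msimp at *; usimp; simp only [hx, map_zero]; and_intros <;> ring⟩
instance : (sZ2 (σ := σ)).Normal := ⟨fun x hx s => by msimp at *; usimp; simp only [hx, map_zero]; and_intros <;> ring⟩
instance : (sV (σ := σ)).Normal := ⟨fun x hx s => by msimp at *; usimp; simp only [hx, map_zero]; and_intros <;> ring⟩
instance : (sY (σ := σ)).Normal := ⟨fun x hx s => by msimp at *; usimp; simp only [hx, map_zero]; and_intros <;> ring⟩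
instance : (sPh (σ := σ)).Normal := ⟨fun x hx s => by msimp at *; usimp; simp only [hx, map_zero]; and_intros <;> ring⟩
instance : (Q1 (σ := σ)).Normal := ⟨fun x hx s => by msimp at *; usimp; simp only [hx, map_zero]; and_intros <;> ring⟩
instance : (sP (σ := σ)).Normal := ⟨fun x hx s => by msimp at *; usimp; simp only [hx, map_zero]; ring⟩
instance : (Q2 (σ := σ)).Normal := ⟨fun x hx s => by msimp at *; usimp; simp only [hx, map_zero]; ring⟩

theorem Z_le_Z2 : sZ ≤ sZ2 (σ := σ) := fun _ h => ⟨h.1, h.2.1, h.2.2.1, h.2.2.2.1⟩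
theorem Z2_le_V : sZ2 ≤ sV (σ := σ) := fun _ h => ⟨h.1, h.2.1, h.2.2.2⟩
theorem Z2_le_Y : sZ2 ≤ sY (σ := σ) := fun _ h => ⟨h.1, h.2.1, h.2.2.1⟩
theorem V_le_Ph : sV ≤ sPh (σ := σ) := fun _ h => ⟨h.1, h.2.1⟩
theorem Y_le_Ph : sY ≤ sPh (σ := σ) := fun _ h => ⟨h.1, h.2.1⟩
theorem Z2_le_Ph : sZ2 ≤ sPh (σ := σ) := fun _ h => ⟨h.1, h.2.1⟩
theorem Y_le_Q1 : sY ≤ Q1 (σ := σ) := fun _ h => h.2
theorem Z2_le_Q1 : sZ2 ≤ Q1 (σ := σ) := fun _ h => ⟨h.2.1, h.2.2.1⟩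
theorem X_le_Q1 : sX ≤ Q1 (σ := σ) := fun _ h => ⟨h.1, h.2.1⟩
theorem Q1_le_P : Q1 ≤ sP (σ := σ) := fun _ h => h.1
theorem Ph_le_P : sPh ≤ sP (σ := σ) := fun _ h => h.2
theorem Ph_le_Q2 : sPh ≤ Q2 (σ := σ) := fun _ h => h.1
theorem V_le_Q2 : sV ≤ Q2 (σ := σ) := fun _ h => h.1
theorem L_le_Q2 : sL ≤ Q2 (σ := σ) := fun _ h => h.1

theorem brk_a (g h : U σ) : ⁅g, h⁆.a = 0 := by usimp; ring
theorem brk_b (g h : U σ) : ⁅g, h⁆.b = 0 := by usimp; ring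
theorem brk_c (g h : U σ) : ⁅g, h⁆.c = h.b * σ g.b - g.b * σ h.b := by usimp; ring
theorem brk_d (g h : U σ) : ⁅g, h⁆.d = g.a * h.b - h.a * g.b := by usimp; ring
theorem brk_f (g h : U σ) : ⁅g, h⁆.f =
    g.a * h.c + σ g.b * h.d - h.a * g.c - σ h.b * g.d + (σ g.b + σ h.b) * (g.a * h.b - h.a * g.b) := by usimp; ring
theorem brk_top (g h : U σ) : ⁅g, h⁆ ∈ sPh := ⟨brk_a g h, brk_b g h⟩

theorem brk_f_Ph (g : U σ) (hh : h ∈ sPh) : ⁅g, h⁆.f = g.a * h.c + σ g.b * h.d := by rw [brk_f, hh.1, hh.2]; simp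

theorem brk_Ph (g : U σ) (hh : h ∈ sPh) : ⁅g, h⁆ ∈ sZ2 :=
  ⟨brk_a g h, brk_b g h, by rw [brk_c, hh.2]; simp, by rw [brk_d, hh.1, hh.2]; simp⟩

theorem brk_Z2 (g : U σ) (hh : h ∈ sZ2) : ⁅g, h⁆ ∈ sZ := by
  obtain ⟨h1, h2, h3, h4⟩ := brk_Ph g (Z2_le_Ph hh)
  exact ⟨h1, h2, h3, h4, by rw [brk_f_Ph g (Z2_le_Ph hh), hh.2.2.1, hh.2.2.2]; simp⟩

theorem brk_e_Z2 (g : U σ) (hh : h ∈ sZ2) : ⁅g, h⁆.e = σ g.a * h.f - g.a * σ h.f := by
  msimp at hh; usimp; simp only [hh, map_zero]; ring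

theorem brk_P (hg : g ∈ sP) (hh : h ∈ sP) : ⁅g, h⁆ ∈ sZ2 ∧ ⁅g, h⁆.f = g.a * h.c - h.a * g.c := by
  msimp at *; simp [brk_a, brk_b, brk_c, brk_d, brk_f, hg, hh]

theorem brk_PY (hg : g ∈ sP) (hh : h ∈ sY) : ⁅g, h⁆ ∈ sZ ∧ ⁅g, h⁆.e = h.d * σ g.d + h.f * σ g.a - g.d * σ h.d - g.a * σ h.f := by
  msimp at *; usimp; simp only [hg, hh, map_zero]; and_intros <;> ring

theorem brk_Q1 (hg : g ∈ Q1) (hh : h ∈ Q1) : ⁅g, h⁆ ∈ sZ ∧
    ⁅g, h⁆.e = h.a * σ g.f + h.d * σ g.d + h.f * σ g.a - (g.a * σ h.f + g.d * σ h.d + g.f * σ h.a) := by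
  msimp at *; usimp; simp only [hg, hh, map_zero]; and_intros <;> ring

theorem brk_Q1' (g : U σ) (hh : h ∈ Q1) : ⁅g, h⁆ ∈ sY := ⟨brk_a g h, brk_b g h, by rw [brk_c, hh.1]; simp⟩

theorem brk_Q2 (hg : g ∈ Q2) (hh : h ∈ Q2) : ⁅g, h⁆ ∈ sV ∧ ⁅g, h⁆.f = σ g.b * h.d - σ h.b * g.d ∧
    ⁅g, h⁆.e = h.d * σ g.d - g.d * σ h.d := by
  msimp at *; usimp; simp only [hg, hh, map_zero]; and_intros <;> ring

theorem brk_PhPh (hg : g ∈ sPh) (hh : h ∈ sPh) : ⁅g, h⁆ ∈ sZ := by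
  msimp at *; simp [brk_a, brk_b, brk_c, brk_d, brk_f, hg, hh]

theorem brk_symm {B : Subgroup (U σ)} (k : ⁅g, h⁆ ∈ B) : ⁅h, g⁆ ∈ B := commutatorElement_inv g h ▸ inv_mem k

theorem comm_iff : g * h = h * g ↔ ⁅g, h⁆ = 1 := commutatorElement_eq_one_iff_mul_comm.symm

theorem eq_one_of_Z (hg : g ∈ sZ) (e : g.e = 0) : g = 1 := U.ext hg.1 hg.2.1 hg.2.2.1 hg.2.2.2.1 hg.2.2.2.2 e

theorem eq_of_Z (hg : g ∈ sZ) (hh : h ∈ sZ) (e : g.e = h.e) : g = h := by msimp at *; usimp; simp [hg, hh, e]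

theorem tr_e (hg : g ∈ sV) : g.e + σ g.e = 0 := by simpa [hg.1, hg.2.2] using g.h2

theorem tr_c (hg : g ∈ sP) : g.c + σ g.c = 0 := by simpa [mem_sP.1 hg] using g.h1

theorem comm_Z (hg : g ∈ sZ) (h : U σ) : h * g = g * h := by
  msimp at hg; usimp; simp [hg, add_comm]

theorem comm_V (hg : g ∈ sV) (hh : h ∈ Q2) : h * g = g * h := by
  msimp at *; usimp; simp [hg, hh, add_comm]

theorem comm_Z2 (hh : h ∈ sZ2) : g * h = h * g ↔ σ g.a * h.f = g.a * σ h.f :=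
  comm_iff.trans ⟨fun k => sub_eq_zero.1 ((brk_e_Z2 g hh).symm.trans (by rw [k]; rfl)),
    fun k => eq_one_of_Z (brk_Z2 g hh) (by rw [brk_e_Z2 g hh, k, sub_self])⟩

/-- `[g, Z₂] = Z` for `g ∉ Q₂` -/
theorem exists_brk_Z2 (hg : g.a ≠ 0) {z : U σ} (hz : z ∈ sZ) : ∃ f, ⁅g, xf f⁆ = z := by
  obtain ⟨x, hx⟩ := exists_sub (σ := σ) ((map_ne_zero σ).2 hg) (tr_e (Z2_le_V (Z_le_Z2 hz)))
  have k : (xf x : U σ) ∈ sZ2 := ⟨rfl, rfl, rfl, rfl⟩
  exact ⟨x, eq_of_Z (brk_Z2 g k) hz (by rw [brk_e_Z2 g k, ← hx, T.sq]; rfl)⟩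

/-- `[g, Y] = Z` for `g ∈ Φ ∖ V` -/
theorem exists_brk_Y (hg : g ∈ sPh) (hd : g.d ≠ 0) {z : U σ} (hz : z ∈ sZ) : ∃ d, ⁅g, el 0 0 d 0⁆ = z := by
  obtain ⟨x, hx⟩ := exists_sub (σ := σ) ((map_ne_zero σ).2 hd) (tr_e (Z2_le_V (Z_le_Z2 hz)))
  have k : (el 0 0 x 0 : U σ) ∈ sPh := ⟨rfl, rfl⟩
  exact ⟨x, eq_of_Z (brk_PhPh hg k) hz (by rw [(brk_Q2 hg.1 k.1).2.2, ← hx, T.sq, el_d, mul_comm])⟩

theorem Q2_of_comm (k : ∀ f, g * xf f = xf f * g) : g ∈ Q2 :=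
  (map_eq_zero σ).1 (eq_zero_of_real (σ := σ) fun x => by rw [T.sq]; exact (comm_Z2 ⟨rfl, rfl, rfl, rfl⟩).1 (k x))

theorem isPGroup_U [Finite K] (p : ℕ) [Fact p.Prime] [CharP K p] : IsPGroup p (U σ) := by
  have key : ∀ (B : Subgroup (U σ)) (φ : U σ → K), (∀ x ∈ B, ∀ y ∈ B, φ (x * y) = φ x + φ y) → ∀ x ∈ B, φ (x ^ p) = 0 :=
    fun B φ hφ x hx => by
      have h0 : φ 1 = 0 := by simpa using hφ 1 (one_mem _) 1 (one_mem _)
      have : ∀ n : ℕ, φ (x ^ n) = n * φ x := fun n => by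
        induction n with
        | zero => simpa using h0
        | succ n ih => rw [pow_succ, hφ _ (pow_mem hx n) _ hx, ih]; push_cast; ring
      rw [this, CharP.cast_eq_zero, zero_mul]
  intro g
  have h1 : g ^ p ∈ sPh := ⟨key ⊤ U.a (fun _ _ _ _ => rfl) g trivial, key ⊤ U.b (fun _ _ _ _ => rfl) g trivial⟩
  have h2 : (g ^ p) ^ p ∈ sV := ⟨(pow_mem h1 p).1, (pow_mem h1 p).2,
    key sPh U.d (fun x hx y _ => by rw [mul_d, hx.1]; simp) _ h1⟩
  refine ⟨3, ?_⟩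
  rw [show p ^ 3 = p * p * p by ring, pow_mul, pow_mul]
  have h3 := pow_mem h2 p
  exact U.ext h3.1 h3.2.1 (key sV U.c (fun x hx y _ => by rw [mul_c, hx.2.1]; simp) _ h2) h3.2.2
    (key sV U.f (fun x hx y _ => by rw [mul_f, hx.1, hx.2.2]; simp) _ h2)
    (key sV U.e (fun x hx y hy => by rw [mul_e, hx.1, hx.2.2, hy.1]; simp) _ h2)

theorem isPGroup_top [Finite K] (p : ℕ) [Fact p.Prime] [CharP K p] : IsPGroup p (⊤ : Subgroup (U σ)) :=
  (isPGroup_U p).to_subgroup _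

end CL.U5
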