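/-
S5258: essential subgroups inside `Q₂` or `Q₁ V`.
-/
import Cfsg.Agent.FUS.U5.Defs
import Cfsg.Agent.FUS.U5.Pair

set_option autoImplicit false
set_option linter.unusedSimpArgs false
set_option linter.unusedSectionVars false
set_option linter.unusedVariables false

namespace CL.U5

open CL.Fus CL.RF4 Subgroup Cfsg Cfsg.FusionSystem U Un
open scoped commutatorElement

variable {K : Type*} [Field K] [Finite K] {σ : K →+* K} [T : Un σ] {E : Subgroup (U σ)} {A : Set (U σ → U σ)}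

theorem Z_le (h : Cp ⊤ E A) : sZ ≤ E := fun _ hz => h.mem1 trivial fun y _ => (comm_Z hz y).symm

open Classical in
/-- a retraction onto the fixed field -/
noncomputable def fx (σ : K →+* K) (t : K) : Fix σ := if h : σ t = t then ⟨t, h⟩ else ⟨0, map_zero σ⟩

omit T in
theorem fx_inj {s t : K} (hs : σ s = s) (ht : σ t = t) (h : fx σ s = fx σ t) : s = t := by
  rw [fx, fx, dif_pos hs, dif_pos ht] at h
  exact congrArg Subtype.val h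

theorem el_mem_Y (d f : K) : (el 0 0 d f : U σ) ∈ sY := ⟨rfl, rfl, by simp⟩

theorem xf_mem (f : K) : (xf f : U σ) ∈ sZ2 := ⟨rfl, rfl, rfl, rfl⟩

theorem Z_le_V : sZ ≤ sV (σ := σ) := Z_le_Z2.trans Z2_le_V

omit [Finite K] T in
theorem Pr.cent {Ω : Type*} [Group Ω] {E B Z : Subgroup Ω} {A : Set (Ω → Ω)} {ψ : Ω → Ω} (pr : Pr E B Z ψ) (hA : Au E A)
    (hψ : ψ ∈ A) {z : Ω} (hz : z ∈ Z) (hw : ψ z ∉ Z) {b : Ω} (hb : b ∈ B) (e : b * ψ z = ψ z * b) : b ∈ E :=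
  pr.2 z hz hw b hb 1 (one_mem _) (by rw [(hA.hom ψ hψ).map_one]; exact commutatorElement_eq_one_iff_mul_comm.2 e)

/-- `V ≤ Z(E)` (`comm_V`, `mem1`). If `Q₂ ≰ E`: `pair` with `B = Q₂`, `Z = V`, `N = ⊥` gives `w = ψ z ∈ E ∖ V`, central in `E` (`iv_Zn`).
Every `y ∈ E` commutes with `w` (`brk_c`, `brk_Q2`): `y.b σ w.b`, `y.d σ w.d` are fixed by `σ`, `σ w.b y.d = σ y.b w.d`.
`false_of_cnt` with `ι = K`, `κ = Fix σ`, `card_lt`: if `w.b ≠ 0` take `φ x = el 0 0 x 0`, `χ y = y.b σ w.b` (on `E`, else `0`; `y.b = 0` gives `y.d = 0`);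
if `w.b = 0` then `w.d ≠ 0`, `E ≤ sPh`, `φ x = el 0 x 0 0`, `χ y = y.d σ w.d`. -/
theorem essA (h : Cp ⊤ E A) (h1 : E ≤ Q2) : E = Q2 := by
  have hV : sV ≤ E := fun g hg => h.mem1 trivial fun y hy => (comm_V hg (h1 hy)).symm
  refine le_antisymm h1 (by_contra fun hn => ?_)
  have q : Qd ⊤ E A Q2 sV ⊥ := ⟨le_top, hn, hV, fun y _ z hz => Normal.conj_mem inferInstance z hz y, bot_le, h.iv_bot,
    fun b hb y hy => (brk_Q2 hb (h1 hy)).1, fun b hb z hz => mem_bot.2 (comm_iff.1 (comm_V hz hb)),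
    fun b _ n hn => by simp [mem_bot.1 hn]⟩
  obtain ⟨ψ, hψ, pr⟩ := h.pair _ _ _ q
  obtain ⟨z, hz, hw⟩ := pr.1
  have hE : ∀ z ∈ sV, ψ z ∈ E := fun z hz => h.maps ψ hψ z (hV hz)
  obtain ⟨w1, w2⟩ := h.iv_Zn ψ hψ z (hV hz) ⟨hV hz, fun y hy => (comm_V hz (h1 hy)).symm⟩
  generalize ψ z = w at hw w1 w2
  have k : ∀ y ∈ E, w.b * σ y.b = y.b * σ w.b ∧ σ y.b * w.d = σ w.b * y.d ∧ w.d * σ y.d = y.d * σ w.d := fun y hy => by
    have e := comm_iff.1 (w2 y hy).symm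
    have e1 := brk_c y w
    obtain ⟨-, e2, e3⟩ := brk_Q2 (h1 hy) (h1 w1)
    rw [e] at e1 e2 e3
    exact ⟨sub_eq_zero.1 e1.symm, sub_eq_zero.1 e2.symm, sub_eq_zero.1 e3.symm⟩
  by_cases hb : w.b = 0
  · have hd : w.d ≠ 0 := fun e => hw ⟨h1 w1, hb, e⟩
    have k1 : ∀ y ∈ E, y.b = 0 := fun y hy => by simpa [hb, hd] using (k y hy).2.1
    have k2 : ∀ y ∈ E, σ (y.d * σ w.d) = y.d * σ w.d := fun y hy => by
      rw [map_mul, T.sq, ← (k y hy).2.2, mul_comm]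
    refine q.false_of_cnt h.toAu hψ pr card_lt (fun x => el 0 x 0 0) (fun _ => rfl) (fun i j e => ?_)
      (fun y => fx σ (y.d * σ w.d)) fun z hz z' hz' e => ?_
    · exact neg_add_eq_zero.1 (k1 _ e)
    · have e' := mul_right_cancel₀ ((map_ne_zero σ).2 hd) (fx_inj (k2 _ (hE z hz)) (k2 _ (hE z' hz')) e)
      have m := mul_mem (inv_mem (hE z hz)) (hE z' hz')
      exact ⟨h1 m, k1 _ m, by simp [mul_d, inv_d, k1 _ (hE z hz), k1 _ (hE z' hz'), e']⟩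
  · have k1 : ∀ y ∈ E, y.b = 0 → y.d = 0 := fun y hy e => by simpa [hb, e] using (k y hy).2.1
    have k2 : ∀ y ∈ E, σ (y.b * σ w.b) = y.b * σ w.b := fun y hy => by
      rw [map_mul, T.sq, ← (k y hy).1, mul_comm]
    refine q.false_of_cnt h.toAu hψ pr card_lt (fun x => el 0 0 x 0) (fun _ => rfl) (fun i j e => ?_)
      (fun y => fx σ (y.b * σ w.b)) fun z hz z' hz' e => ?_
    · have := k1 _ e (by simp [mul_b, inv_b])
      simp only [mul_d, inv_d, inv_a, el_a, el_b, el_d] at this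
      linear_combination -this
    · have e' := mul_right_cancel₀ ((map_ne_zero σ).2 hb) (fx_inj (k2 _ (hE z hz)) (k2 _ (hE z' hz')) e)
      have m := mul_mem (inv_mem (hE z hz)) (hE z' hz')
      have m' : ((ψ z)⁻¹ * ψ z').b = 0 := by simp [mul_b, inv_b, e']
      exact ⟨h1 m, m', k1 _ m m'⟩

/-- `g₀ ∈ E` with `a ≠ 0`. If `Y ≰ E`: `pair` with `B = sY`, `Z = sZ`, `N = ⊥` (`brk_PY`) gives `w = ψ z ∉ Z` central in `E` with `C_Y(w) ≤ E` (take `z' = 1`).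
`w ∈ V` would give `Y ≤ E`. Claim: `z` is a commutator of two elements of `E`; then so is `w` (`iv_brk`), so `w ∈ Z₂ ≤ V` (`brk_P`), contradiction.
If `w.a = 0`: `Z₂` centralises `w`, `Z₂ ≤ E`, `exists_brk_Z2 g₀`. If `w.a ≠ 0`: `y d = el 0 0 d (-(d σ w.d) / σ w.a)` centralises `w` (`brk_PY`), lies in `E`, and
`[y 1, y d].e = d - σ d` is any element of trace zero (`exists_sub`, `brk_Q2`, `brk_PhPh`, `eq_of_Z`). -/
theorem essB1 (h : Cp ⊤ E A) (h1 : ¬ E ≤ Q2) (h2 : E ≤ sP) : sY ≤ E := by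
  obtain ⟨g, hg, ha⟩ := SetLike.not_le_iff_exists.1 h1
  have hZ := Z_le h
  refine by_contra fun hn => ?_
  have q : Qd ⊤ E A sY sZ ⊥ := ⟨le_top, hn, hZ, fun y _ z hz => Normal.conj_mem inferInstance z hz y, bot_le, h.iv_bot,
    fun b hb y hy => brk_symm (brk_PY (h2 hy) hb).1, fun b _ z hz => mem_bot.2 (comm_iff.1 (comm_Z hz b)),
    fun b _ n hn => by simp [mem_bot.1 hn]⟩
  obtain ⟨ψ, hψ, pr⟩ := h.pair _ _ _ q
  obtain ⟨z, hz, hw⟩ := pr.1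
  have hC := fun b hb => pr.cent h.toAu hψ hz hw (b := b) hb
  have w1 := h.maps ψ hψ z (hZ hz)
  have key : ∃ x ∈ E, ∃ y ∈ E, ⁅x, y⁆ = z := by
    generalize ψ z = w at hC w1
    by_cases hwa : w.a = 0
    · obtain ⟨f, hf⟩ := exists_brk_Z2 ha hz
      exact ⟨g, hg, _, hC _ (Z2_le_Y (xf_mem f)) (comm_V (Z2_le_V (xf_mem f)) hwa).symm, hf⟩
    have hwa' := (map_ne_zero σ).2 hwa
    have m : ∀ d, el 0 0 d (-(d * σ w.d) / σ w.a) ∈ E := fun d => hC _ (el_mem_Y _ _) (comm_iff.2 (eq_one_of_Z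
      (brk_PY (h2 w1) (el_mem_Y _ _)).1 (by
        rw [(brk_PY (h2 w1) (el_mem_Y _ _)).2]
        simp only [el_d, el_f, map_div₀, map_neg, map_mul, T.sq]
        field_simp
        ring))).symm
    obtain ⟨x, hx⟩ := exists_sub (σ := σ) one_ne_zero (tr_e (Z_le_V hz))
    refine ⟨_, m 1, _, m x, eq_of_Z (brk_PhPh ⟨rfl, rfl⟩ ⟨rfl, rfl⟩) hz ?_⟩
    rw [(brk_Q2 (by rfl) (by rfl)).2.2, ← hx]
    simp
  obtain ⟨x, hx, y, hy, rfl⟩ := key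
  have h3 : ψ ⁅x, y⁆ ∈ sV := by
    rw [(h.hom ψ hψ).map_commutator hx hy]
    exact Z2_le_V (brk_P (h2 (h.maps ψ hψ x hx)) (h2 (h.maps ψ hψ y hy))).1
  exact hn fun b hb => hC b hb (comm_V h3 hb.1)

/-- Let `φ ∈ A` with inverse `β`. `y₁ = el 0 0 1 0`, `y₂ = el 0 0 θ 0` do not commute, so `u = φ y₀ ∉ V` for `y₀ = y₁` or `y₂` (`V` is abelian).
For `z ∈ Z` there is `y ∈ Y` with `[u, y] = z` (`exists_brk_Z2` if `u.a ≠ 0`, else `exists_brk_Y`); `β z = [y₀, β y] ∈ Z` (`brk_PY`). `Au.mem_of_inv`. -/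
theorem essB2 (h : Cp ⊤ E A) (h2 : E ≤ sP) (h3 : sY ≤ E) : Ivs E A sZ := by
  intro φ hφ z hz hz'
  obtain ⟨β, hβ, e⟩ := h.inv φ hφ
  refine h.mem_of_inv hβ (fun y hy => (e y hy).2) (fun z hz hz' => ?_) hz hz'
  obtain ⟨y₀, h4, h5⟩ : ∃ y₀ ∈ sY, φ y₀ ∉ sV := by
    by_contra! k
    have m1 := el_mem_Y (σ := σ) 1 0
    have m2 := el_mem_Y (σ := σ) (θ σ) 0
    have c := comm_V (k _ m1) (V_le_Q2 (k _ m2))
    rw [← h.hom φ hφ (h3 m2) (h3 m1), ← h.hom φ hφ (h3 m1) (h3 m2)] at c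
    have c' := (brk_Q2 m1.1 m2.1).2.2
    rw [comm_iff.1 (h.inj hφ (mul_mem (h3 m2) (h3 m1)) (mul_mem (h3 m1) (h3 m2)) c).symm] at c'
    exact θ_sub σ (by simpa using c'.symm)
  have m := h.maps φ hφ y₀ (h3 h4)
  obtain ⟨y, hy, rfl⟩ : ∃ y ∈ sY, ⁅φ y₀, y⁆ = z := by
    by_cases ha : (φ y₀).a = 0
    · obtain ⟨d, hd⟩ := exists_brk_Y ⟨ha, h2 m⟩ (fun e => h5 ⟨ha, h2 m, e⟩) hz'
      exact ⟨_, el_mem_Y d 0, hd⟩
    · obtain ⟨f, hf⟩ := exists_brk_Z2 ha hz'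
      exact ⟨_, Z2_le_Y (xf_mem f), hf⟩
  rw [(h.hom β hβ).map_commutator m (h3 hy), (e y₀ (h3 h4)).1]
  exact brk_symm (brk_PY (h2 (h.maps β hβ y (h3 hy))) h4).1

/-- If `E ≤ Q₁`: `mem2` (chain `Z < E`) gives `Q₁ ≤ E`. Else `g₁ ∈ E`, `g₁.c ≠ 0`; `g₀ ∈ E`, `g₀.a ≠ 0`. `N₁ = {y | ∀ x ∈ E, [y, x] ∈ Z}` is invariant (`iv_comm`), `[y, x].f = y.a x.c - x.a y.c`.
(i) `N₁ ∩ E ≤ Y`: `Y` is invariant, `mem3` (`Z < Y < E`) gives `sP ≤ E`. `Z₂ = {[x, y] z}` is invariant (`iv_brk`, `iv_mul`; `[xa a, g₁].f = a g₁.c`), `sPh = C_E(Z₂)` is invariant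
(`iv_cent`, `Q2_of_comm`), `mem4` (`Z < Z₂ < Φ < E`) gives `⊤ ≤ E`, against `h.ne`.
(ii) `y ∈ N₁ ∩ E ∖ Y`: `y.a x.c = x.a y.c` for all `x ∈ E`, so `y.a ≠ 0` (`x = g₀`), `y.c ≠ 0` (`x = g₁`), and `x ∈ E`, `x.c = 0` give `x.a = 0`. `pair` with `B = sP`, `Z = sY`, `N = sZ`
(`xa 1 ∉ E`); `false_of_cnt` with `ι = K`, `φ = xa`, `χ x = x.c (θ - σ θ) ∈ Fix σ` (`tr_c`). -/
theorem essB (h : Cp ⊤ E A) (h1 : ¬ E ≤ Q2) (h2 : E ≤ sP) : E = Q1 := by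
  have hY := essB1 h h1 h2
  have hZ := essB2 h h2 hY
  refine by_contra fun hn => ?_
  have hn' : ¬ E ≤ Q1 := fun k => hn (le_antisymm k fun g hg =>
    h.mem2 trivial hZ (fun y _ hy => comm_Z hy g) le_rfl (Z_le h) fun y hy => (brk_Q1 hg (k hy)).1)
  obtain ⟨g₀, m0, ha⟩ := SetLike.not_le_iff_exists.1 h1
  obtain ⟨g₁, m1, hc⟩ := SetLike.not_le_iff_exists.1 hn'
  replace hc : g₁.c ≠ 0 := fun e => hc ⟨h2 m1, e⟩
  by_cases k : ∀ y ∈ E, (∀ x ∈ E, x ∈ (E : Set (U σ)) → ⁅y, x⁆ ∈ (sZ : Subgroup (U σ))) → y ∈ sY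
  · have iY : Ivs E A sY := (h.iv_comm h.iv_self hZ).congr
      (fun y hy => ⟨k y hy, fun m x hx _ => brk_symm (brk_PY (h2 hx) m).1⟩) h.toAu
    have hP : sP ≤ E := fun g hg => h.mem3 trivial hZ iY (fun y _ hy => comm_Z hy g) (fun y _ hy => (brk_PY hg hy).1)
      Z2_le_Y (Z2_le_Y.trans hY) fun y hy => (brk_P hg (h2 hy)).1
    have iZ2 : Ivs E A sZ2 := (h.iv_mul (h.iv_brk h.iv_self h.iv_self) hZ).congr (fun z hz => ⟨by
      rintro ⟨_, -, ⟨x, hx, -, y, hy, -, rfl⟩, u, -, hu, rfl⟩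
      exact mul_mem (brk_P (h2 hx) (h2 hy)).1 (Z_le_Z2 hu), fun m => by
        have m2 : xa (z.f / g₁.c) ∈ sP (σ := σ) := rfl
        obtain ⟨m3, m4⟩ := brk_P m2 (h2 m1)
        have m5 := mul_mem (inv_mem m3) m
        refine ⟨_, hY (Z2_le_Y m3), ⟨_, hP m2, hP m2, _, m1, m1, rfl⟩, _, hY (Z2_le_Y m5),
          ⟨m5.1, m5.2.1, m5.2.2.1, m5.2.2.2, ?_⟩, (mul_inv_cancel_left _ _).symm⟩
        rw [mul_f, inv_f, inv_a, inv_d, m3.1, m3.2.1, m3.2.2.2, m4]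
        simp [hc]⟩) h.toAu
    have iPh : Ivs E A sPh := (h.iv_cent iZ2).congr (fun y hy => ⟨fun m => ⟨Q2_of_comm fun f =>
      m _ (hY (Z2_le_Y (xf_mem f))) (xf_mem f), h2 hy⟩, fun m x _ hx => comm_V (Z2_le_V hx) m.1⟩) h.toAu
    exact h.ne fun g _ => h.mem4 trivial hZ iZ2 iPh (fun y _ hy => comm_Z hy g) (fun y _ hy => brk_Z2 g hy)
      (fun y _ hy => brk_Ph g hy) (Ph_le_P.trans hP) fun y _ => brk_top g y
  push Not at k
  obtain ⟨y, hy, k1, k2⟩ := k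
  have k3 : ∀ x ∈ E, y.a * x.c = x.a * y.c := fun x hx =>
    sub_eq_zero.1 ((brk_P (h2 hy) (h2 hx)).2.symm.trans (k1 x hx hx).2.2.2.2)
  have ya : y.a ≠ 0 := fun e => k2 ⟨e, h2 hy, by simpa [e, show g₀.a ≠ 0 from ha] using k3 g₀ m0⟩
  have yc : y.c ≠ 0 := fun e => by simpa [e, ya, hc] using k3 g₁ m1
  have k4 : ∀ x ∈ E, x.c = 0 → x.a = 0 := fun x hx e => by simpa [e, yc] using k3 x hx
  have q : Qd ⊤ E A sP sY sZ := ⟨le_top, fun l => one_ne_zero (k4 (xa 1) (l rfl) rfl), hY,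
    fun y _ z hz => Normal.conj_mem inferInstance z hz y, Z_le_Z2.trans Z2_le_Y, hZ,
    fun b hb y hy => Z2_le_Y (brk_P hb (h2 hy)).1, fun b hb z hz => (brk_PY hb hz).1, fun b _ n hn => comm_Z hn b⟩
  obtain ⟨ψ, hψ, pr⟩ := h.pair _ _ _ q
  have hE : ∀ z ∈ sY, ψ z ∈ E := fun z hz => h.maps ψ hψ z (hY hz)
  have k5 : ∀ x ∈ E, σ (x.c * (θ σ - σ (θ σ))) = x.c * (θ σ - σ (θ σ)) := fun x hx => by
    rw [map_mul, map_sub, T.sq]
    linear_combination (σ (θ σ) - θ σ) * tr_c (h2 hx)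
  refine q.false_of_cnt h.toAu hψ pr card_lt xa (fun _ => rfl) (fun i j e => ?_)
    (fun x => fx σ (x.c * (θ σ - σ (θ σ)))) fun z hz z' hz' e => ?_
  · exact neg_add_eq_zero.1 (k4 _ e (by simp [mul_c, inv_c, inv_b]))
  · have e' := mul_right_cancel₀ (θ_sub σ) (fx_inj (k5 _ (hE z hz)) (k5 _ (hE z' hz')) e)
    have m := mul_mem (inv_mem (hE z hz)) (hE z' hz')
    have m' : ((ψ z)⁻¹ * ψ z').c = 0 := by
      rw [mul_c, inv_c, inv_b, mem_sP.1 (h2 (hE z hz)), ← e']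
      linear_combination tr_c (h2 (hE z hz))
    exact ⟨k4 _ m m', h2 m, m'⟩

end CL.U5
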