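/-
S5258: no essential subgroup contains an element with `a, b ≠ 0`.
-/
import Cfsg.Agent.FUS.U5.Defs
import Cfsg.Agent.FUS.U5.Pair

set_option autoImplicit false
set_option linter.unusedSimpArgs false
set_option linter.unusedSectionVars false
set_option linter.unusedVariables false

namespace CL.U5

open CL.Fus CL.RF4 Subgroup Cfsg Cfsg.FusionSystem U Un
open scoped commutatorElement

variable {K : Type*} [Field K] [Finite K] {σ : K →+* K} [T : Un σ] {E : Subgroup (U σ)} {A : Set (U σ → U σ)} {g : U σ}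

namespace EsC

/-- a retraction onto the fixed field -/
noncomputable def rp (σ : K →+* K) [T : Un σ] (y : K) : Fix σ :=
  ⟨τ σ * y + σ (τ σ * y), by rw [map_add, T.sq, add_comm]⟩

theorem rp_inj {y y' : K} (h : σ y = y) (h' : σ y' = y') (e : rp σ y = rp σ y') : y = y' := by
  have := congrArg Subtype.val e
  simp only [rp, map_mul, h, h', τ_eq] at this
  linear_combination this

theorem Z_le (h : Cp ⊤ E A) : sZ ≤ E := fun z hz => h.mem1 trivial fun y _ => (comm_Z hz y).symm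

theorem exists_t {x : U σ} (hb : g.b ≠ 0) (hc : ⁅g, x⁆.c = 0) (hd : ⁅g, x⁆.d = 0) :
    ∃ t, σ t = t ∧ x.a = t * g.a ∧ x.b = t * g.b := by
  have : σ g.b ≠ 0 := (map_ne_zero σ).2 hb
  rw [brk_c] at hc
  rw [brk_d] at hd
  refine ⟨x.b / g.b, ?_, ?_, by field_simp⟩
  · rw [map_div₀, div_eq_div_iff this hb]; linear_combination -hc
  · field_simp; linear_combination -hd

theorem mem_Ph {x y : U σ} (hb : g.b ≠ 0) (hx : ∃ t, σ t = t ∧ x.a = t * g.a ∧ x.b = t * g.b)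
    (hy : ∃ t, σ t = t ∧ y.a = t * g.a ∧ y.b = t * g.b) (e : rp σ (x.b * σ g.b) = rp σ (y.b * σ g.b)) :
    x⁻¹ * y ∈ sPh := by
  obtain ⟨t, t1, t2, t3⟩ := hx
  obtain ⟨s, s1, s2, s3⟩ := hy
  have := rp_inj (by simp only [t3, map_mul, t1, T.sq]; ring) (by simp only [s3, map_mul, s1, T.sq]; ring) e
  rw [t3, s3] at this
  obtain rfl := mul_right_cancel₀ hb (mul_right_cancel₀ ((map_ne_zero σ).2 hb) this)
  exact ⟨by rw [mul_a, inv_a, t2, s2, neg_add_cancel], by rw [mul_b, inv_b, t3, s3, neg_add_cancel]⟩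

/-- the elements `y` of `Φ` with `[g, y, g] = 1` -/
def sB (g : U σ) : Subgroup (U σ) where
  carrier := {y | y ∈ sPh ∧ σ g.a * (g.a * y.c + σ g.b * y.d) = g.a * σ (g.a * y.c + σ g.b * y.d)}
  one_mem' := ⟨one_mem _, by simp⟩
  mul_mem' {x y} hx hy := ⟨mul_mem hx.1 hy.1, by
    have h1 := hx.2
    have h2 := hy.2
    simp only [mul_c, mul_d, hx.1.1, hx.1.2, map_add, map_mul, map_sub, map_zero] at h1 h2 ⊢
    linear_combination h1 + h2⟩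
  inv_mem' {x} hx := ⟨inv_mem hx.1, by
    have h1 := hx.2
    simp only [inv_c, inv_d, σc, hx.1.1, hx.1.2, map_add, map_mul, map_sub, map_zero, map_neg] at h1 ⊢
    linear_combination -h1⟩

theorem c1 (h : Cp ⊤ E A) (ha : g.a ≠ 0) (hb : g.b ≠ 0) (hc : ∀ y ∈ E, g * y = y * g) : sZ2 ≤ E := by
  by_contra hn
  have hb' : σ g.b ≠ 0 := (map_ne_zero σ).2 hb
  have ht : ∀ x ∈ E, ∃ t, σ t = t ∧ x.a = t * g.a ∧ x.b = t * g.b := fun x hx =>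
    exists_t hb (by rw [comm_iff.1 (hc x hx)]; rfl) (by rw [comm_iff.1 (hc x hx)]; rfl)
  set Z0 := sZ2 ⊓ centralizer {g}
  have m0 : ∀ {y}, y ∈ Z0 ↔ y ∈ sZ2 ∧ σ g.a * y.f = g.a * σ y.f := fun {y} => and_congr_right fun hy =>
    mem_centralizer_singleton_iff.trans (eq_comm.trans (comm_Z2 hy))
  have c0 : ∀ x ∈ E, ∀ y ∈ Z0, x * y = y * x := fun x hx y hy => by
    obtain ⟨t, t1, t2, -⟩ := ht x hx
    rw [comm_Z2 hy.1, t2, map_mul, t1]; linear_combination t * (m0.1 hy).2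
  have e0 : Z0 ≤ E := fun y hy => h.mem1 trivial fun x hx => (c0 x hx y hy).symm
  have zB : sZ2 ≤ sB g := fun y hy => ⟨Z2_le_Ph hy, by simp [hy.2.2.1, hy.2.2.2]⟩
  have q : Qd ⊤ E A (sB g) Z0 ⊥ := ⟨le_top, fun e => hn (zB.trans e), e0,
    fun y hy z hz => by rw [cj, c0 y hy z hz, mul_inv_cancel_right]; exact hz, bot_le, h.iv_bot,
    fun b hb y hy => brk_symm (m0.2 ⟨brk_Ph y hb.1, by
      obtain ⟨t, t1, t2, t3⟩ := ht y hy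
      have := hb.2
      simp only [brk_f_Ph y hb.1, t2, t3, map_add, map_mul, t1] at this ⊢
      linear_combination t * this⟩),
    fun b hb z hz => mem_bot.2 (comm_iff.1 (comm_V (Z2_le_V hz.1) hb.1.1)),
    fun b _ n hn => by rw [mem_bot.1 hn, mul_one, one_mul]⟩
  obtain ⟨ψ, hψ, pr⟩ := h.pair _ _ _ q
  have hm := h.hom ψ hψ
  refine q.false_of_cnt h.toAu hψ pr card_lt'
    (fun i : Fix σ × Fix σ => el 0 0 (i.1.1 * g.a / σ g.b) (i.2.1 * g.a * θ σ)) (fun i => ⟨⟨rfl, rfl⟩, ?_⟩)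
    (fun i j e => ?_) (fun x => rp σ (x.b * σ g.b)) fun z hz z' hz' e => ?_
  · simp only [el_c, el_d, map_zero, mul_zero, neg_zero, zero_add, mul_div_cancel₀ _ hb', map_mul, i.1.2]; ring
  · obtain ⟨u, e, u1⟩ : ∃ u ∈ E, u ∈ sPh ∧ u.c = 0 ∧ u.d = (j.1.1 - i.1.1) * g.a / σ g.b ∧
        u.f = (j.2.1 - i.2.1) * g.a * θ σ := ⟨_, e, by
      simp only [mem_sPh, mul_a, mul_b, mul_c, mul_d, mul_f, inv_a, inv_b, inv_c, inv_d, inv_f, el_a, el_b,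
        el_c, el_d, el_f, map_zero, map_neg, map_mul]
      and_intros <;> ring⟩
    have u2 := brk_f_Ph g u1.1
    rw [comm_iff.1 (hc u e), u1.2.1, u1.2.2.1, mul_zero, zero_add, mul_div_cancel₀ _ hb', one_f] at u2
    have u3 := (mul_eq_zero.1 u2.symm).resolve_right ha
    have u4 := (comm_Z2 ⟨u1.1.1, u1.1.2, u1.2.1, by rw [u1.2.2.1, u3, zero_mul, zero_div]⟩).1 (hc u e)
    simp only [u1.2.2.2, map_mul, map_sub, i.2.2, j.2.2] at u4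
    have u5 : (j.2.1 - i.2.1) * (g.a * σ g.a * (θ σ - σ (θ σ))) = 0 := by linear_combination u4
    exact Prod.ext (Subtype.ext (sub_eq_zero.1 u3).symm) (Subtype.ext (sub_eq_zero.1 ((mul_eq_zero.1 u5).resolve_right
      (mul_ne_zero (mul_ne_zero ha ((map_ne_zero σ).2 ha)) (θ_sub σ)))).symm)
  · have e1 := mem_Ph hb (ht _ (h.maps ψ hψ z (e0 hz))) (ht _ (h.maps ψ hψ z' (e0 hz'))) e
    rw [← hm.map_inv (e0 hz), ← hm (inv_mem (e0 hz)) (e0 hz')] at e1 ⊢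
    by_contra k
    exact hn fun y hy => pr.2 _ (mul_mem (inv_mem hz) hz') k y (zB hy) 1 (one_mem _) (by
      rw [hm.map_one]; exact comm_iff.1 (comm_V (Z2_le_V hy) e1.1).symm)

theorem c2 (h : Cp ⊤ E A) (hg : g ∈ E) (ha : g.a ≠ 0) (hb : g.b ≠ 0) (h2 : sZ2 ≤ E) (hc : ∀ y ∈ E, ⁅g, y⁆ ∈ sZ) :
    sPh ≤ E := by
  by_contra hn
  have ht : ∀ x ∈ E, ∃ t, σ t = t ∧ x.a = t * g.a ∧ x.b = t * g.b := fun x hx =>
    exists_t hb (hc x hx).2.2.1 (hc x hx).2.2.2.1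
  have hE : ∀ x ∈ E, ∀ y ∈ E, ⁅x, y⁆ ∈ sZ := fun x hx y hy => by
    obtain ⟨t, t1, t2, t3⟩ := ht x hx
    obtain ⟨s, s1, s2, s3⟩ := ht y hy
    have e1 := (hc x hx).2.2.2.2
    have e2 := (hc y hy).2.2.2.2
    simp only [mem_sZ, brk_a, brk_b, brk_c, brk_d, brk_f, t2, t3, s2, s3, map_mul, t1, s1, true_and] at e1 e2 ⊢
    exact ⟨by ring, by ring, by linear_combination t * e2 - s * e1⟩
  have iz : Ivs E A sZ := (h.iv_brk h.iv_self h.iv_self).congr (fun y _ => ⟨by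
    rintro ⟨x, hx, -, y, hy, -, rfl⟩; exact hE x hx y hy, fun hy => by
      obtain ⟨f, e⟩ := exists_brk_Z2 ha hy
      have := h2 (show xf f ∈ sZ2 from ⟨rfl, rfl, rfl, rfl⟩)
      exact ⟨g, hg, hg, _, this, this, e.symm⟩⟩) h.toAu
  have q : Qd ⊤ E A sPh (E ⊓ sPh) sZ := ⟨le_top, hn, inf_le_left,
    fun y hy z hz => ⟨E.mul_mem (E.mul_mem hy hz.1) (E.inv_mem hy), Normal.conj_mem inferInstance z hz.2 y⟩,
    le_inf (Z_le h) (Z_le_Z2.trans Z2_le_Ph), iz,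
    fun b hb y hy => (le_inf h2 Z2_le_Ph) (brk_symm (brk_Ph y hb)), fun b hb z hz => brk_PhPh hb hz.2,
    fun b _ n hn => comm_Z hn b⟩
  obtain ⟨ψ, hψ, pr⟩ := h.pair _ _ _ q
  refine q.false_of_cnt h.toAu hψ pr card_lt (fun x : K => el 0 0 x 0) (fun i => ⟨rfl, rfl⟩)
    (fun i j e => ?_) (fun x => rp σ (x.b * σ g.b)) fun z hz z' hz' e => ⟨E.mul_mem (E.inv_mem (h.maps ψ hψ z hz.1))
      (h.maps ψ hψ z' hz'.1), mem_Ph hb (ht _ (h.maps ψ hψ z hz.1)) (ht _ (h.maps ψ hψ z' hz'.1)) e⟩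
  have u2 := (hc _ e).2.2.2.2
  simp only [brk_f, mul_a, mul_b, mul_c, mul_d, inv_a, inv_b, inv_c, inv_d, el_a, el_b, el_c, el_d, map_zero, map_neg,
    map_mul, map_add] at u2
  exact mul_left_cancel₀ ((map_ne_zero σ).2 hb) (by linear_combination -u2)

theorem iv_Ph (h : Cp ⊤ E A) (hg : g ∈ E) (ha : g.a ≠ 0) (hb : g.b ≠ 0) (h2 : sPh ≤ E) : Ivs E A sPh := by
  intro ψ hψ y hy hy'
  obtain ⟨β, hβ, e⟩ := h.inv ψ hψ
  have hm := h.hom ψ hψ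
  have hw := h.maps ψ hψ y hy
  have b1 : ∀ x ∈ E, ⁅ψ y, x⁆ = ψ ⁅y, β x⁆ := fun x hx => by
    rw [hm.map_commutator hy (h.maps β hβ x hx), (e x hx).2]
  have b2 : ∀ x, ⁅y, β x⁆ ∈ sZ2 := fun x => brk_symm (brk_Ph _ hy')
  have k1 : ∀ x ∈ E, ⁅ψ y, ⁅ψ y, x⁆⁆ = 1 := fun x hx => by
    rw [b1 x hx, ← hm.map_commutator hy (h2 (Z2_le_Ph (b2 x))), comm_iff.1 (comm_V (Z2_le_V (b2 x)) hy'.1), hm.map_one]
  have k2 : ∀ x ∈ E, ∀ x' ∈ E, ∃ z ∈ sZ, ⁅⁅ψ y, x⁆, x'⁆ = ψ z := fun x hx x' hx' =>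
    ⟨_, brk_symm (brk_Z2 (β x') (b2 x)), by
      rw [b1 x hx, hm.map_commutator (h2 (Z2_le_Ph (b2 x))) (h.maps β hβ x' hx'), (e x' hx').2]⟩
  generalize ψ y = w at *
  by_cases wa : w.a = 0 <;> by_cases wb : w.b = 0
  · exact ⟨wa, wb⟩
  · have := brk_f_Ph w (brk_top w g)
    rw [k1 g hg, brk_d, wa, one_f] at this
    exact absurd (by linear_combination this) (mul_ne_zero ((map_ne_zero σ).2 wb) (mul_ne_zero ha wb))
  · have ud : ⁅w, g⁆.d ≠ 0 := by rw [brk_d, wb, mul_zero, sub_zero]; exact mul_ne_zero wa hb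
    obtain ⟨z, hz, e1⟩ := k2 g hg g hg
    have := (brk_symm (e1 ▸ h.mem_of_inv hβ (fun y hy => (e y hy).2) (fun x hx hx' => by
      obtain ⟨d, e2⟩ := exists_brk_Y (brk_top w g) ud hx'
      obtain ⟨z, hz, e3⟩ := k2 g hg (el 0 0 d 0) (h2 ⟨rfl, rfl⟩)
      rw [← e2, e3, (e z (Z_le h hz)).1]; exact hz) (Z_le h hz) hz : ⁅⁅w, g⁆, g⁆ ∈ sZ)).2.2.2.2
    rw [brk_f_Ph g (brk_top w g), brk_c, wb] at this
    exact absurd (by simpa using this) (mul_ne_zero ((map_ne_zero σ).2 hb) ud)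
  · have x1 : (el 0 0 (w.a * θ σ / σ w.b) 0 : U σ) ∈ sPh := ⟨rfl, rfl⟩
    have := (comm_Z2 (brk_Ph w x1)).1 (comm_iff.2 (k1 _ (h2 x1)))
    simp only [brk_f_Ph w x1, el_c, el_d, map_zero, mul_zero, neg_zero, zero_add,
      mul_div_cancel₀ _ ((map_ne_zero σ).2 wb), map_mul] at this
    exact absurd (by linear_combination this) (mul_ne_zero (mul_ne_zero wa ((map_ne_zero σ).2 wa)) (θ_sub σ))

end EsC
open EsC

/-- PROOF. `Z ≤ E` (`mem1`, `comm_Z`). Suppose `Z₂ ≰ E`. `pair` (`B = sZ2`, `Z = sZ`, `N = ⊥`): `w = ψ z ∉ Z` central in `E`, `C_{Z₂}(w) ≤ E`, so `w.a ≠ 0` (`comm_V`), and `w.b ≠ 0` (`brk_d g w`).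
Rename `w = g`, `a = g.a`, `b = g.b`. For `x ∈ E`: `x.a b = a x.b` (`brk_d`), `x.b σ b` is fixed by `σ` (`brk_c`), so `x.a σ a` is fixed too. `Z₀ = sZ2 ⊓ C(g) = {σ a f = a σ f}` (`comm_Z2`) lies in `E` (`mem1`) and is central in `E`.
`B = {y ∈ Φ | σ a (a y.c + σ b y.d)` fixed by `σ}` (a subgroup, `Z₂ ≤ B`); `[x, y].f = (x.b / b) (a y.c + σ b y.d)` (`brk_f_Ph`), so `[B, E] ≤ Z₀`; `[B, Z₀] = 1` (`comm_V`). `pair` with `B, Z₀, ⊥` gives `ψ'`.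
`ψ' z ∈ Φ`, `z ∈ Z₀` imply `ψ' z ∈ Z₀` (else all `y ∈ Z₂ ≤ B` centralise `ψ' z`, `z' = 1`, `Z₂ ≤ E`). `false_of_cnt`, `ι = Fix σ × Fix σ` (`card_lt'`), `φ (c, c') = el 0 0 (c a / σ b) (c' a θ)`
(`(φ i)⁻¹ φ j ∈ E` commutes with `g`: the `f` part gives `Δc = 0`, then `comm_Z2` gives `Δc' = 0`), `χ x = x.b σ b`. -/
theorem essC1 (h : Cp ⊤ E A) (hg : g ∈ E) (ha : g.a ≠ 0) (hb : g.b ≠ 0) : sZ2 ≤ E := by
  by_contra hn
  obtain ⟨ψ, hψ, ⟨z, hz, hw⟩, pr⟩ := h.pair sZ2 sZ ⊥ ⟨le_top, hn, Z_le h,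
    fun y _ z hz => Normal.conj_mem inferInstance z hz y, bot_le, h.iv_bot, fun b hb y _ => brk_symm (brk_Z2 y hb),
    fun b _ z hz => mem_bot.2 (comm_iff.1 (comm_Z hz b)), fun b _ n hn => by rw [mem_bot.1 hn, mul_one, one_mul]⟩
  have hc := (h.iv_Zn ψ hψ z (Z_le h hz) ⟨Z_le h hz, fun y _ => (comm_Z hz y).symm⟩).2
  have wa : (ψ z).a ≠ 0 := fun e => hn fun y hy => pr z hz hw y hy 1 (one_mem _) (by
    rw [(h.hom ψ hψ).map_one]; exact comm_iff.1 (comm_V (Z2_le_V hy) e).symm)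
  refine hn (c1 h wa (fun e => ?_) hc)
  have := brk_d (ψ z) g
  rw [comm_iff.1 (hc g hg), e, one_d, mul_zero, sub_zero] at this
  exact mul_ne_zero wa hb this.symm

/-- PROOF. (α) `ψ Z₂ ≤ Φ` for all `ψ ∈ A`: `R = core Φ ≥ Z₂`, `W = core V ≥ Z` (`z = [g, y]`, `y ∈ Z₂` by `exists_brk_Z2`, `ψ z = [ψ g, ψ y] ∈ Z₂` by `brk_Ph`); `mem3` with `W < R < E` for `s ∈ Φ`.
(β) `y = ψ y₀ ∉ Φ`, `y₀ ∈ Z₂`, `β = ψ⁻¹`. For `x ∈ E`, `[y, x] = ψ [y₀, β x] ∈ ψ Z` is central in `E`. Central elements `w` of `E` lie in `Φ` (`Q2_of_comm`, `brk_d g w`).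
If `y.a = 0`: `w = [g, y]` has `d = g.a y.b ≠ 0` and `[y, w].f = σ y.b w.d ≠ 0`, but `w` is central. So `y.a ≠ 0`, `β Z ≤ Z` (`z = [y, xf f]`, `β z = [y₀, β _]`), `ψ Z ≤ Z` (`mem_of_inv`), `[y, E] ≤ Z`, `y.b ≠ 0` (`brk_d g y = 0`).
Rename `y = g`: `[g, E] ≤ Z`. For `x ∈ E`, `t = x.b / g.b` is fixed by `σ`, `x.a = t g.a`, and `a x.c + σ b x.d = t (a g.c + σ b g.d)` (`brk_f`); hence `[x, x'] ∈ Z` for `x, x' ∈ E` and `Z` is the set of commutators of `E`: invariant (`iv_brk`).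
If `Φ ≰ E`: `pair` with `B = sPh`, `Z = E ⊓ sPh`, `N = sZ`; `false_of_cnt`, `ι = K`, `φ x = el 0 0 x 0` (`[g, ·].f = σ b Δx`), `χ x = x.b σ g.b`. -/
theorem essC2 (h : Cp ⊤ E A) (hg : g ∈ E) (ha : g.a ≠ 0) (hb : g.b ≠ 0) (h2 : sZ2 ≤ E) : sPh ≤ E := by
  have xe : ∀ f, (xf f : U σ) ∈ sZ2 := fun f => ⟨rfl, rfl, rfl, rfl⟩
  by_cases k : ∀ ψ ∈ A, ∀ y ∈ sZ2, ψ y ∈ sPh
  · have r1 : sZ2 ≤ core h.toAu sPh := fun y hy => ⟨h2 hy, fun α hα => k α hα y hy⟩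
    have r2 : sZ ≤ core h.toAu sV := fun z hz => ⟨Z_le h hz, fun α hα => by
      obtain ⟨f, rfl⟩ := exists_brk_Z2 ha hz
      rw [(h.hom α hα).map_commutator hg (h2 (xe f))]
      exact Z2_le_V (brk_Ph _ (k α hα _ (xe f)))⟩
    exact fun s hs => h.mem3 trivial (h.iv_core sV) (h.iv_core sPh) (fun y _ hy => comm_V (h.core_le _ hy) hs.1)
      (fun y _ hy => r2 (brk_PhPh hs (h.core_le _ hy))) r1 h2 fun y _ => brk_symm (brk_Ph y hs)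
  push Not at k
  obtain ⟨ψ, hψ, y, hy, hy'⟩ := k
  obtain ⟨β, hβ, e⟩ := h.inv ψ hψ
  have hm := h.hom ψ hψ
  have hw := h.maps ψ hψ y (h2 hy)
  have b1 : ∀ x ∈ E, ∃ z ∈ sZ, ⁅ψ y, x⁆ = ψ z := fun x hx => ⟨_, brk_symm (brk_Z2 (β x) hy), by
    rw [hm.map_commutator (h2 hy) (h.maps β hβ x hx), (e x hx).2]⟩
  generalize ψ y = w at *
  have wa : w.a ≠ 0 := fun wa => by
    have wb : w.b ≠ 0 := fun wb => hy' ⟨wa, wb⟩
    obtain ⟨z, hz, e1⟩ := b1 g hg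
    have hc := (h.iv_Zn ψ hψ z (Z_le h hz) ⟨Z_le h hz, fun y _ => (comm_Z hz y).symm⟩).2 w hw
    have := brk_f_Ph w (brk_top w g)
    rw [← e1] at hc
    rw [comm_iff.1 hc.symm, brk_d, wa, one_f] at this
    exact absurd (by linear_combination this) (mul_ne_zero ((map_ne_zero σ).2 wb) (mul_ne_zero ha wb))
  have hc : ∀ x ∈ E, ⁅w, x⁆ ∈ sZ := fun x hx => by
    obtain ⟨z, hz, e1⟩ := b1 x hx
    refine e1 ▸ h.mem_of_inv hβ (fun y hy => (e y hy).2) (fun u _ hu => ?_) (Z_le h hz) hz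
    obtain ⟨f, rfl⟩ := exists_brk_Z2 wa hu
    obtain ⟨z, hz, e2⟩ := b1 _ (h2 (xe f))
    rw [e2, (e z (Z_le h hz)).1]; exact hz
  refine c2 h hw wa (fun wb => ?_) h2 hc
  have := (hc g hg).2.2.2.1
  rw [brk_d, wb, mul_zero, sub_zero] at this
  exact mul_ne_zero wa hb this

/-- PROOF. `Φ` is invariant: let `w = ψ y`, `y ∈ Φ`, `β = ψ⁻¹`. For `x, x' ∈ E`: `[w, [w, x]] = 1` and `[[w, x], x'] ∈ ψ Z` (apply `ψ` to `brk_Ph`, `comm_V`, `brk_Z2`).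
`w.a, w.b ≠ 0`: `x = el 0 0 (w.a θ / σ w.b) 0`, `[w, x].f = w.a θ`, `comm_Z2` fails. `w.a = 0 ≠ w.b`: `u = [w, g] ∈ Φ`, `u.d ≠ 0`, `[w, u].f = σ w.b u.d ≠ 0`.
`w.a ≠ 0 = w.b`: `u = [w, g]`, `u.d ≠ 0`, `u.c = 0`; `[u, Y] = Z` (`exists_brk_Y`) gives `β Z ≤ Z`, so `ψ Z ≤ Z` (`mem_of_inv`), but `[g, u].f = σ g.b u.d ≠ 0`.
Then `Z` (commutators of `Φ`), `V = Φ ⊓ C(Φ)`, `Z₂ = {v ∈ V | [v, E] ≤ Z}` (`[g, v].f = g.a v.c`) are invariant; `mem4` gives `⊤ ≤ E`, against `h.ne`. -/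
theorem essC3 (h : Cp ⊤ E A) (hg : g ∈ E) (ha : g.a ≠ 0) (hb : g.b ≠ 0) (h2 : sPh ≤ E) : False := by
  have i1 := iv_Ph h hg ha hb h2
  have x1 : ∀ d, (el 0 0 d 0 : U σ) ∈ sPh := fun d => ⟨rfl, rfl⟩
  have i2 : Ivs E A sZ := (h.iv_brk i1 i1).congr (fun y _ => ⟨by
    rintro ⟨x, -, hx, y, -, hy, rfl⟩; exact brk_PhPh hx hy, fun hy => by
      obtain ⟨d, e⟩ := exists_brk_Y (x1 1) one_ne_zero hy
      exact ⟨_, h2 (x1 1), x1 1, _, h2 (x1 d), x1 d, e.symm⟩⟩) h.toAu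
  have i3 : Ivs E A sV := (i1.inter (h.iv_cent i1)).congr (fun y _ => ⟨fun k => ⟨k.1.1, k.1.2, by
    by_contra hd
    obtain ⟨d, e⟩ := exists_brk_Y k.1 hd (z := ze (θ σ - σ (θ σ)) (by simp [T.sq])) ⟨rfl, rfl, rfl, rfl, rfl⟩
    rw [comm_iff.1 (k.2 _ (h2 (x1 d)) (x1 d))] at e
    exact θ_sub σ (congrArg U.e e).symm⟩, fun k => ⟨V_le_Ph k, fun x _ hx => (comm_V k hx.1).symm⟩⟩) h.toAu
  have i4 : Ivs E A sZ2 := (i3.inter (h.iv_comm h.iv_self i2)).congr (fun y _ => ⟨fun k => ⟨k.1.1, k.1.2.1, by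
    have := (brk_symm (k.2 g hg hg)).2.2.2.2
    rw [brk_f_Ph g (V_le_Ph k.1), k.1.2.2, mul_zero, add_zero] at this
    exact (mul_eq_zero.1 this).resolve_left ha, k.1.2.2⟩,
    fun k => ⟨Z2_le_V k, fun x _ _ => brk_symm (brk_Z2 x k)⟩⟩) h.toAu
  exact h.ne fun s hs => h.mem4 hs i2 i4 i1 (fun y _ hy => comm_Z hy s) (fun y _ hy => brk_Z2 s hy)
    (fun y _ hy => brk_Ph s hy) h2 fun y _ => brk_top s y

end CL.U5
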