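/-
S5258: the essential subgroups are `Q₁` and `Q₂`.
-/
import Cfsg.Agent.FUS.U5.EsA
import Cfsg.Agent.FUS.U5.EsC

set_option autoImplicit false
set_option linter.unusedSimpArgs false
set_option linter.unusedSectionVars false
set_option linter.unusedVariables false

namespace CL.U5

open CL.Fus CL.RF4 Subgroup Cfsg Cfsg.FusionSystem U Un
open scoped commutatorElement

variable {K : Type*} [Field K] [Finite K] {σ : K →+* K} [T : Un σ] {p : ℕ} [Fact p.Prime] [CharP K p]
  {F : FusionSystem (⊤ : Subgroup (U σ))} {E : Subgroup (U σ)}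

theorem ess_cases (hF : F.IsSaturated p) (hE : F.IsEssential p E) : E = Q1 ∨ E = Q2 := by
  have h := cp_of_essential (isPGroup_top p) hF hE
  by_cases h1 : E ≤ Q2
  · exact Or.inr (essA h h1)
  by_cases h2 : E ≤ sP
  · exact Or.inl (essB h h1 h2)
  obtain ⟨x, hx, hx'⟩ := SetLike.not_le_iff_exists.1 h1
  obtain ⟨y, hy, hy'⟩ := SetLike.not_le_iff_exists.1 h2
  obtain ⟨g, hg, ha, hb⟩ : ∃ g ∈ E, g.a ≠ 0 ∧ g.b ≠ 0 := by
    by_cases k : x.b = 0
    · by_cases k' : y.a = 0
      · exact ⟨x * y, mul_mem hx hy, by rwa [mul_a, k', add_zero], by rwa [mul_b, k, zero_add]⟩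
      · exact ⟨y, hy, k', hy'⟩
    · exact ⟨x, hx, hx', k⟩
  exact (essC3 h hg ha hb (essC2 h hg ha hb (essC1 h hg ha hb))).elim

end CL.U5
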