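/-
S5258: diagonal and field automorphisms of `U σ`, the two reflections.
-/
import Cfsg.Agent.FUS.U5.Defs
import Cfsg.Agent.FUS.Iso

set_option autoImplicit false
set_option linter.unusedSimpArgs false
set_option linter.unusedSectionVars false
set_option linter.unnecessarySeqFocus false

namespace CL.U5

open CL.Fus Subgroup Cfsg U Un

/-- diagonal times field automorphisms -/
@[ext] structure Dg (K : Type*) [Field K] where
  l : Kˣ
  m : Kˣ
  ρ : RingAut K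

variable {K : Type*} [Field K] [Finite K] {σ : K →+* K} [T : Un σ]

/-- a field automorphism acting on units -/
def ru (ρ : RingAut K) : Kˣ →* Kˣ := Units.map (ρ : K →* K)

@[simp] theorem ru_val (ρ : RingAut K) (s : Kˣ) : (ru ρ s : K) = ρ s := rfl

/-- `σ` on units -/
def σu (σ : K →+* K) : Kˣ →* Kˣ := Units.map (σ : K →* K)

omit T in
@[simp] theorem σu_val (s : Kˣ) : (σu σ s : K) = σ s := rfl

namespace Dg

instance : One (Dg K) := ⟨⟨1, 1, 1⟩⟩
instance : Mul (Dg K) := ⟨fun x y => ⟨x.l * ru x.ρ y.l, x.m * ru x.ρ y.m, x.ρ * y.ρ⟩⟩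
instance : Inv (Dg K) := ⟨fun x => ⟨ru x.ρ⁻¹ x.l⁻¹, ru x.ρ⁻¹ x.m⁻¹, x.ρ⁻¹⟩⟩

@[simp] theorem one_l : (1 : Dg K).l = 1 := rfl
@[simp] theorem one_m : (1 : Dg K).m = 1 := rfl
@[simp] theorem one_ρ : (1 : Dg K).ρ = 1 := rfl
@[simp] theorem mul_l (x y : Dg K) : (x * y).l = x.l * ru x.ρ y.l := rfl
@[simp] theorem mul_m (x y : Dg K) : (x * y).m = x.m * ru x.ρ y.m := rfl
@[simp] theorem mul_ρ (x y : Dg K) : (x * y).ρ = x.ρ * y.ρ := rfl

instance : Group (Dg K) := Group.ofLeftAxioms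
  (fun x y z => Dg.ext (Units.ext (by simp [mul_assoc])) (Units.ext (by simp [mul_assoc])) (mul_assoc _ _ _))
  (fun x => Dg.ext (one_mul _) (one_mul _) (one_mul _))
  (fun x => Dg.ext (show ru x.ρ⁻¹ _ * ru x.ρ⁻¹ _ = 1 by rw [← map_mul, inv_mul_cancel, map_one])
    (show ru x.ρ⁻¹ _ * ru x.ρ⁻¹ _ = 1 by rw [← map_mul, inv_mul_cancel, map_one]) (inv_mul_cancel _))

instance : Finite (Dg K) :=
  have : Finite (RingAut K) := Finite.of_injective _ DFunLike.coe_injective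
  Finite.of_injective (fun x : Dg K => (x.l, x.m, x.ρ)) fun x y h => by simpa [Dg.ext_iff] using h

end Dg

omit T in
theorem map_σ (ρ : RingAut K) (a : K) : ρ (σ a) = σ (ρ a) := by
  by_cases ha : a = 0
  · simp [ha]
  obtain ⟨m, hm⟩ := (Units.map σ.toMonoidHom).map_cyclic
  have e : ∀ x : Kˣ, σ x = (x : K) ^ m := fun x => by simpa using congrArg Units.val (hm x)
  have e1 := e (Units.mk0 a ha)
  have e2 := e (Units.mk0 (ρ a) (by simpa using ha))
  simp only [Units.val_mk0] at e1 e2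
  rw [e1, e2, map_zpow₀]

/-- the action of `Dg K` on the coordinates -/
@[simps] def ddf (x : Dg K) (g : U σ) : U σ :=
  ⟨x.l * x.ρ g.a, x.m * x.ρ g.b, x.m * σ x.m * x.ρ g.c, x.l * x.m * x.ρ g.d, x.l * x.m * σ x.m * x.ρ g.f,
    x.l * σ x.l * x.m * σ x.m * x.ρ g.e, by
      have := congrArg x.ρ g.h1
      simp only [map_add, map_mul, map_σ, map_zero, T.sq] at *
      linear_combination (x.m * σ x.m) * this, by
      have := congrArg x.ρ g.h2
      simp only [map_add, map_mul, map_σ, map_zero, T.sq] at *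
      linear_combination (x.l * σ x.l * x.m * σ x.m) * this⟩

theorem ddf_mul (x y : Dg K) (g : U σ) : ddf (x * y) g = ddf x (ddf y g) := by
  ext <;> simp [map_σ] <;> ring

theorem ddf_one (g : U σ) : ddf 1 g = g := by ext <;> simp

/-- diagonal times field automorphisms -/
def dd : Dg K →* MulAut (U σ) := MonoidHom.mk' (fun x =>
  { toFun := ddf x
    invFun := ddf x⁻¹
    left_inv := fun g => by rw [← ddf_mul, inv_mul_cancel, ddf_one]
    right_inv := fun g => by rw [← ddf_mul, mul_inv_cancel, ddf_one]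
    map_mul' := fun g h => by
      ext <;> simp only [mul_a, mul_b, mul_c, mul_d, mul_f, mul_e, ddf_a, ddf_b, ddf_c, ddf_d, ddf_f, ddf_e, map_add, map_sub, map_mul,
        map_σ, T.sq] <;> ring }) fun x y => MulEquiv.ext (ddf_mul x y)

section
variable (x : Dg K) (g : U σ)

@[simp] theorem dd_a : (dd x g).a = x.l * x.ρ g.a := rfl
@[simp] theorem dd_b : (dd x g).b = x.m * x.ρ g.b := rfl
@[simp] theorem dd_c : (dd x g).c = x.m * σ x.m * x.ρ g.c := rfl
@[simp] theorem dd_d : (dd x g).d = x.l * x.m * x.ρ g.d := rfl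
@[simp] theorem dd_f : (dd x g).f = x.l * x.m * σ x.m * x.ρ g.f := rfl
@[simp] theorem dd_e : (dd x g).e = x.l * σ x.l * x.m * σ x.m * x.ρ g.e := rfl

variable {g}

theorem dd_Q1 (h : g ∈ Q1) : dd x g ∈ Q1 := by msimp at *; simp [h]
theorem dd_Q2 (h : g ∈ Q2) : dd x g ∈ Q2 := by msimp at *; simp [h]
theorem dd_Z2 (h : g ∈ sZ2) : dd x g ∈ sZ2 := by msimp at *; simp [h]
theorem dd_X (h : g ∈ sX) : dd x g ∈ sX := by msimp at *; simp [h]
theorem dd_Ph (h : g ∈ sPh) : dd x g ∈ sPh := by msimp at *; simp [h]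
theorem dd_L (h : g ∈ sL) : dd x g ∈ sL := by msimp at *; simp [h]

end

/-- the diagonal matrix `(s, t, σ(s t) / (s t), σt⁻¹, σs⁻¹)` of `SU₅(q)`; `h_α(s) = ts s s⁻¹`, `h_β(t) = ts 1 t` -/
@[simps] def ts (σ : K →+* K) (s t : Kˣ) : Dg K := ⟨s * t⁻¹, s * t ^ 2 * (σu σ s * σu σ t)⁻¹, 1⟩

omit T in
theorem ts_mul (s t s' t' : Kˣ) : ts σ s t * ts σ s' t' = ts σ (s * s') (t * t') :=
  Dg.ext (Units.ext (by simp; ring)) (Units.ext (by simp; ring)) (mul_one _)

/-- the reflection normalising `Q₁` -/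
@[simps] def w1 (g : U σ) : U σ := ⟨g.f, 0, 0, -g.d, g.a, g.e, by simp, by rw [map_neg]; linear_combination g.h2⟩

/-- the reflection normalising `Q₂` -/
@[simps] def w2 (g : U σ) : U σ := ⟨0, g.d, g.e + g.a * σ g.f, g.b, -σ g.f - σ g.d * g.b, g.c, by
  rw [map_add, map_mul, T.sq]; linear_combination g.h2, by simpa using g.h1⟩

theorem isoOn_w1 : IsoOn (Q1 (σ := σ)) Q1 w1 w1 :=
  have e : ∀ g ∈ Q1 (σ := σ), w1 (w1 g) = g := fun g hg => by ext <;> simp [hg.1, hg.2]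
  ⟨fun x hx y hy => by
    usimp; simp only [w1_a, w1_b, w1_c, w1_d, w1_f, w1_e]; usimp; simp only [hx.1, hx.2, hy.1, hy.2, map_zero]; and_intros <;> ring,
    fun _ _ => ⟨rfl, rfl⟩, fun _ _ => ⟨rfl, rfl⟩, e, e⟩

theorem isoOn_w2 : IsoOn (Q2 (σ := σ)) Q2 w2 w2 :=
  have e : ∀ g ∈ Q2 (σ := σ), w2 (w2 g) = g := fun g hg => by ext <;> simp [mem_Q2.1 hg, T.sq, mul_comm]
  ⟨fun x hx y hy => by
    usimp; simp only [w2_a, w2_b, w2_c, w2_d, w2_f, w2_e]; usimp; simp only [mem_Q2.1 hx, mem_Q2.1 hy, map_zero]; and_intros <;> ring,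
    fun _ _ => rfl, fun _ _ => rfl, e, e⟩

/-- conjugation by `w1` -/
@[simps] def s1 (σ : K →+* K) (x : Dg K) : Dg K := ⟨x.l * x.m * σu σ x.m, (σu σ x.m)⁻¹, x.ρ⟩

/-- conjugation by `w2` -/
@[simps] def s2 (x : Dg K) : Dg K := ⟨x.l⁻¹, x.l * x.m, x.ρ⟩

theorem w1_dd (x : Dg K) (g : U σ) : w1 (dd x g) = dd (s1 σ x) (w1 g) := by
  ext <;> simp [T.sq] <;> field_simp <;> simp

theorem w2_dd (x : Dg K) (g : U σ) : w2 (dd x g) = dd (s2 x) (w2 g) := by
  ext <;> simp [T.sq, map_σ] <;> field_simp <;> simp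

variable {F : FusionSystem (⊤ : Subgroup (U σ))}

/-- the automorphisms of `S` in `F` are in standard position -/
def Std (F : FusionSystem (⊤ : Subgroup (U σ))) : Prop := ∀ f, Mor F ⊤ f → ∃ u x, ∀ g, f g = cj u (dd x g)

/-- the diagonal automorphisms in `F` -/
def DF (F : FusionSystem (⊤ : Subgroup (U σ))) : Subgroup (Dg K) where
  carrier := {x | Mor F ⊤ (dd (σ := σ) x)}
  one_mem' := (mor_id F le_rfl).congr fun g _ => by simp
  mul_mem' {x y} hx hy := (Mor.comp hx hy fun _ _ => trivial).congr fun g _ => by simp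
  inv_mem' {x} hx := (Mor.of_leftInv hx fun g _ => by simp).mono (Mor.img_top hx).ge

theorem mem_DF {x : Dg K} : x ∈ DF F ↔ Mor F ⊤ (dd (σ := σ) x) := Iff.rfl

theorem Std.dd_mem (hS : Std F) {k : U σ → U σ} (hk : Mor F ⊤ k) : ∃ u, ∃ x ∈ DF F, ∀ g, k g = cj u (dd x g) :=
  let ⟨u, x, hu⟩ := hS k hk
  ⟨u, x, (hk.cj_comp (s := u⁻¹) trivial).congr fun g _ => by rw [Function.comp, hu, cj_inv_cj], hu⟩

end CL.U5
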