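/-
S5258: automorphisms of `Q₁`, `Q₂` that extend to `S`.
-/
import Cfsg.Agent.FUS.U5.Dd
import Cfsg.Agent.FUS.U5.Gen

set_option autoImplicit false
set_option linter.unusedSimpArgs false
set_option linter.unusedSectionVars false
set_option linter.unusedVariables false

namespace CL.U5

open CL.Fus CL.RF4 Subgroup Cfsg Cfsg.FusionSystem U Un
open scoped commutatorElement

variable {K : Type*} [Field K] [Finite K] {σ : K →+* K} [T : Un σ] {p : ℕ} [Fact p.Prime] [CharP K p]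
  {F F' : FusionSystem (⊤ : Subgroup (U σ))}

theorem dd_eq_of_ab {x y : Dg K} (h1 : ∀ a : K, x.l * x.ρ a = y.l * y.ρ a) (h2 : (x.m : K) = y.m) : x = y := by
  have e : (x.l : K) = y.l := by simpa using h1 1
  exact Dg.ext (Units.ext e) (Units.ext h2) (RingEquiv.ext fun a => mul_left_cancel₀ y.l.ne_zero (e ▸ h1 a))

theorem dd_eq_of_Q1 {x y : Dg K} (h : ∀ g ∈ Q1 (σ := σ), (dd x g).a = (dd y g).a ∧ (dd x g).d = (dd y g).d) : x = y := by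
  have e := fun a => (h (xa a) ⟨rfl, rfl⟩).1
  have e1 : (x.l : K) = y.l := by simpa using e 1
  have e2 := (h (el 0 0 1 0) ⟨rfl, by simp⟩).2
  exact dd_eq_of_ab e (by simpa [e1] using e2)

theorem dd_eq_of_Q2 {x y : Dg K} (h : ∀ g ∈ Q2 (σ := σ), (dd x g).b = (dd y g).b ∧ (dd x g).d = (dd y g).d) : x = y := by
  have e1 : (x.m : K) = y.m := by simpa using (h (el 0 1 0 0) rfl).1
  exact dd_eq_of_ab (fun a => mul_left_cancel₀ y.m.ne_zero (by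
    have := (h (el 0 0 a 0) rfl).2
    simp only [dd_d, el_d, e1] at this
    linear_combination this)) e1

theorem not_dvd_DF (hF : F.IsSaturated p) : ¬ p ∣ Nat.card (DF F) :=
  not_dvd_of (isPGroup_top p) hF dd _ (fun _ hx => hx) fun x u h => dd_eq_of_ab
    (fun a => by have := congrArg U.a (h (xa a)); usimp at this; simpa using this)
    (by have := congrArg U.b (h (el 0 1 0 0)); usimp at this; simpa using this)

variable {A : Set (U σ → U σ)}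

theorem flagQ1 (hA : Au Q1 A) (h : Ivs Q1 A sZ2) (s : U σ) : Ch Q1 A s ⊥ ⊤ := by
  have hY : Ivs Q1 A sY := (hA.iv_cent h).congr (fun y hy => ⟨fun k => ⟨Q2_of_comm fun f => k _ ⟨rfl, rfl⟩ ⟨rfl, rfl, rfl, rfl⟩, hy⟩,
    fun k x _ hx => comm_V (Z2_le_V hx) k.1⟩) hA
  have hZ : Ivs Q1 A sZ := hA.iv_Zn.congr (fun y hy => ⟨fun k => by
    have k1 := fun x hx => congrArg U.e (comm_iff.1 (k.2 x hx))
    have ka : y.a = 0 := Q2_of_comm fun f => k.2 _ ⟨rfl, rfl⟩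
    refine ⟨ka, hy.1, hy.2, (map_eq_zero σ).1 (eq_zero_of_real (σ := σ) fun x => ?_),
      (map_eq_zero σ).1 (eq_zero_of_real (σ := σ) fun x => ?_)⟩
    · have := k1 (el 0 0 x 0) ⟨rfl, by simp⟩
      rw [(brk_Q1 hy ⟨rfl, by simp⟩).2] at this
      simp only [el_a, el_d, el_f, map_zero, one_e, T.sq] at *
      linear_combination this
    · have := k1 (xa x) ⟨rfl, rfl⟩
      rw [(brk_Q1 hy ⟨rfl, rfl⟩).2] at this
      simp only [xa_a, xa_d, xa_f, map_zero, one_e, T.sq] at *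
      linear_combination this, fun k => ⟨hy, fun x _ => (comm_Z k x).symm⟩⟩) hA
  exact (((Ch.base hA hZ fun y _ k => comm_Z k s).step hZ h fun y _ k => brk_Z2 s k).step h hY
    fun y _ k => brk_Ph s (Y_le_Ph k)).step hY Iv.top fun y hy _ => brk_Q1' s hy

theorem flagQ2 (hA : Au Q2 A) (h : Ivs Q2 A sPh) (s : U σ) : Ch Q2 A s ⊥ ⊤ := by
  have k1 : (el 0 0 1 0 : U σ) ∈ sPh := ⟨rfl, rfl⟩
  have hZ : Ivs Q2 A sZ := (hA.iv_brk h h).congr (fun y hy => ⟨by rintro ⟨x, -, hx, x', -, hx', rfl⟩; exact brk_PhPh hx hx', fun k =>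
    let ⟨d, e⟩ := exists_brk_Y k1 one_ne_zero k; ⟨_, k1.1, k1, el 0 0 d 0, rfl, ⟨rfl, rfl⟩, e.symm⟩⟩) hA
  have h2 : Ivs Q2 A sZ2 := (hA.iv_mul (hA.iv_brk hA.iv_self h) hZ).congr (fun y hy => ⟨by
    rintro ⟨_, -, ⟨x, -, -, x', -, hx', rfl⟩, z, -, hz, rfl⟩
    exact mul_mem (brk_Ph x hx') (Z_le_Z2 hz), fun k => by
    have k2 : (el 0 0 y.f 0 : U σ) ∈ sPh := ⟨rfl, rfl⟩
    have k3 := brk_Ph (el 0 1 0 0 : U σ) k2
    have k4 := brk_f_Ph (el 0 1 0 0 : U σ) k2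
    refine ⟨_, k3.1, ⟨el 0 1 0 0, rfl, rfl, _, k2.1, k2, rfl⟩, ⁅el 0 1 0 0, el 0 0 y.f 0⁆⁻¹ * y, mul_mem (inv_mem k3.1) hy, ?_, (mul_inv_cancel_left _ _).symm⟩
    generalize ⁅(el 0 1 0 0 : U σ), (el 0 0 y.f 0 : U σ)⁆ = c at k3 k4
    msimp at *; usimp; simp [k, k3, k4]⟩) hA
  exact (((Ch.base hA hZ fun y _ k => comm_Z k s).step hZ h2 fun y _ k => brk_Z2 s k).step h2 h
    fun y _ k => brk_Ph s k).step h Iv.top fun y _ _ => brk_top s y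

theorem extQ1 (hF : F.IsSaturated p) (hc : F.IsCentric Q1) (f : U σ → U σ) (hf : Mor F Q1 f) (h1 : ∀ x ∈ Q1, f x ∈ Q1)
    (h2 : ∀ x ∈ sZ2, f x ∈ sZ2) : ∃ g, Mor F ⊤ g ∧ Set.EqOn g f (Q1 (σ := σ)) :=
  ext_of_chain (isPGroup_top p) hF hc le_normalizer_of_normal (X := sZ2) le_normalizer_of_normal
    (fun _ hA h s _ => flagQ1 hA h s) hf h1 fun x _ hx => h2 x hx

theorem extQ2 (hF : F.IsSaturated p) (hc : F.IsCentric Q2) (f : U σ → U σ) (hf : Mor F Q2 f) (h1 : ∀ x ∈ Q2, f x ∈ Q2)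
    (h2 : ∀ x ∈ sPh, f x ∈ sPh) : ∃ g, Mor F ⊤ g ∧ Set.EqOn g f (Q2 (σ := σ)) :=
  ext_of_chain (isPGroup_top p) hF hc le_normalizer_of_normal (X := sPh) le_normalizer_of_normal
    (fun _ hA h s _ => flagQ2 hA h s) hf h1 fun x _ hx => h2 x hx

theorem stabQ1 (hF : F.IsSaturated p) (hS : Std F) (hc : F.IsCentric Q1) {f : U σ → U σ} (hf : Mor F Q1 f) (h : ∀ x ∈ Q1, f x ∈ Q1)
    (h1 : ∀ x ∈ sZ2, f x ∈ sZ2) (h2 : ∀ x ∈ sX, f x ∈ sX) : ∃ u ∈ Q1, ∃ x ∈ DF F, ∀ g ∈ Q1, f g = cj u (dd x g) := by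
  obtain ⟨k, hk, e⟩ := extQ1 hF hc f hf h h1
  obtain ⟨u, x, hd, hu⟩ := hS.dd_mem hk
  refine ⟨u, ?_, x, hd, fun g hg => by rw [← e hg, hu]⟩
  have e1 := h2 (xa 1) ⟨rfl, rfl, rfl, rfl⟩
  rw [← e ⟨rfl, rfl⟩, hu] at e1
  msimp at *; usimp at e1
  simp only [dd_a, dd_b, dd_c, dd_d, dd_f, xa_a, xa_b, xa_c, xa_d, xa_f, map_zero, map_one] at e1
  have n := x.l.ne_zero
  have e3 : u.b = 0 := by grind
  exact ⟨e3, by simp only [e3, map_zero] at e1; grind⟩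

theorem stabQ2 (hF : F.IsSaturated p) (hS : Std F) (hc : F.IsCentric Q2) {f : U σ → U σ} (hf : Mor F Q2 f) (h : ∀ x ∈ Q2, f x ∈ Q2)
    (h1 : ∀ x ∈ sPh, f x ∈ sPh) (h2 : ∀ x ∈ sL, f x ∈ sL) : ∃ u ∈ Q2, ∃ x ∈ DF F, ∀ g ∈ Q2, f g = cj u (dd x g) := by
  obtain ⟨k, hk, e⟩ := extQ2 hF hc f hf h h1
  obtain ⟨u, x, hd, hu⟩ := hS.dd_mem hk
  refine ⟨u, ?_, x, hd, fun g hg => by rw [← e hg, hu]⟩
  have e1 := (h2 (el 0 1 0 0) ⟨rfl, rfl⟩).2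
  rw [← e (show el 0 1 0 0 ∈ Q2 from rfl), hu] at e1
  msimp; usimp at e1
  simp only [dd_a, dd_b, dd_d, el_a, el_b, el_d, map_zero, map_one] at e1
  have n := x.m.ne_zero
  grind

end CL.U5
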