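/-
S5258: groups acting on `Q₁ / Z = K³`; definitions.
-/
import Cfsg.Agent.FUS.U5.Defs
import Cfsg.Agent.FUS.S4.Defs

set_option autoImplicit false
set_option linter.unusedSimpArgs false
set_option linter.unusedSectionVars false

namespace CL.U5

open CL.Fus Subgroup Un S4F

variable {K : Type*} [Field K] (σ : K →+* K) [T : Un σ]

/-- the hermitian form -/
def hh (x y : K × K × K) : K := x.1 * σ y.2.2 + x.2.1 * σ y.2.1 + x.2.2 * σ y.1

/-- the alternating form with values in the elements of trace zero -/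
def om (x y : K × K × K) : K := hh σ x y - σ (hh σ x y)

/-- the action of `S` on `Q₁ / Z` -/
def tau (b c : K) : GA K := AddEquiv.toIntLinearEquiv
  { toFun := fun v => (v.1, v.2.1 + v.1 * b, v.2.2 + v.1 * c - v.2.1 * σ b)
    invFun := fun v => (v.1, v.2.1 - v.1 * b, v.2.2 - v.1 * c + (v.2.1 - v.1 * b) * σ b)
    left_inv := fun v => by ext <;> simp; ring
    right_inv := fun v => by ext <;> simp; ring
    map_add' := fun v w => by ext <;> simp <;> ring }

@[simp] theorem tau_apply (b c a d f : K) : tau σ b c (a, d, f) = (a, d + a * b, f + a * c - d * σ b) := rfl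

/-- the twists commuting with all `tau σ b c` -/
def gam (δ κ φ : K) : GA K := AddEquiv.toIntLinearEquiv
  { toFun := fun v => (v.1, v.2.1 + δ * σ v.1, v.2.2 + φ * v.1 + κ * σ v.1 - δ * σ v.2.1)
    invFun := fun v => (v.1, v.2.1 - δ * σ v.1, v.2.2 - φ * v.1 - κ * σ v.1 + δ * σ (v.2.1 - δ * σ v.1))
    left_inv := fun v => by ext <;> simp; ring
    right_inv := fun v => by ext <;> simp; ring
    map_add' := fun v w => by ext <;> simp <;> ring }

@[simp] theorem gam_apply (δ κ φ a d f : K) : gam σ δ κ φ (a, d, f) = (a, d + δ * σ a, f + φ * a + κ * σ a - δ * σ d) := rfl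

/-- the reflections of `SU₃(q)` -/
def nn (x : Kˣ) : GA K := AddEquiv.toIntLinearEquiv
  { toFun := fun v => (x * v.2.2, -(σ x / x * v.2.1), v.1 / σ x)
    invFun := fun v => (σ x * v.2.2, -(x / σ x * v.2.1), v.1 / x)
    left_inv := fun v => by
      have := (map_ne_zero σ).2 x.ne_zero
      ext <;> simp <;> field_simp
    right_inv := fun v => by
      have := (map_ne_zero σ).2 x.ne_zero
      ext <;> simp <;> field_simp
    map_add' := fun v w => by ext <;> simp <;> ring }

@[simp] theorem nn_apply (x : Kˣ) (a d f : K) : nn σ x (a, d, f) = (x * f, -(σ x / x * d), a / σ x) := rfl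

theorem ext3 {g h : GA K} (e : ∀ a d f, g (a, d, f) = h (a, d, f)) : g = h := LinearEquiv.ext fun v => e v.1 v.2.1 v.2.2

theorem tau_mul (b c b' c' : K) : tau σ b' c' * tau σ b c = tau σ (b + b') (c + c' - b * σ b') := ext3 fun a d f => by
  rw [LinearEquiv.mul_apply]; simp; constructor <;> ring

theorem gam_tau (δ κ φ b c : K) : gam σ δ κ φ * tau σ b c = tau σ b c * gam σ δ κ φ := ext3 fun a d f => by
  simp only [LinearEquiv.mul_apply, tau_apply, gam_apply, map_add, map_mul, Prod.mk.injEq, true_and]; constructor <;> ring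

theorem om_tau {b c : K} (h : c + σ c + b * σ b = 0) (x y : K × K × K) : om σ (tau σ b c x) (tau σ b c y) = om σ x y := by
  obtain ⟨a, d, f⟩ := x
  obtain ⟨a', d', f'⟩ := y
  simp only [om, hh, tau_apply, map_add, map_sub, map_mul, T.sq]
  linear_combination (a * σ a' - σ a * a') * h

theorem om_gam {δ κ φ : K} (h1 : 2 * δ = 0) (h2 : φ + σ φ = δ * σ δ) (x y : K × K × K) :
    om σ (gam σ δ κ φ x) (gam σ δ κ φ y) = om σ x y := by
  obtain ⟨a, d, f⟩ := x
  obtain ⟨a', d', f'⟩ := y
  have h3 := congrArg σ h1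
  simp only [om, hh, gam_apply, map_add, map_sub, map_mul, T.sq, map_ofNat, map_zero] at *
  linear_combination (a * σ a' - σ a * a') * h2 + (σ a * σ d' - σ d * σ a') * h1 - (a * d' - d * a') * h3

/-- `g` maps `W = {(0, 0, f)}` into itself -/
def FixW (g : GA K) : Prop := ∀ f, ∃ f', g (0, 0, f) = (0, 0, f')

/-- `H` contains all `tau` and preserves the alternating form up to a bijection of its values -/
structure Om0 (H : Subgroup (GA K)) : Prop where
  tau : ∀ b c, c + σ c + b * σ b = 0 → tau σ b c ∈ H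
  om : ∀ g ∈ H, ∀ x y x' y', om σ x y = om σ x' y' → om σ (g x) (g y) = om σ (g x') (g y')
  mv : ∃ g ∈ H, ¬ FixW g

/-- moreover the `tau` form a Sylow subgroup, and singular vectors are preserved in characteristic two -/
structure Om1 (p : ℕ) (H : Subgroup (GA K)) : Prop extends Om0 σ H where
  syl : ∃ T₀, SylIn p T₀ H ∧ ∀ t, t ∈ T₀ ↔ ∃ b c, c + σ c + b * σ b = 0 ∧ t = U5.tau σ b c
  sing : (2 : K) = 0 → ∀ g ∈ H, ∀ x, hh σ x x = 0 → hh σ (g x) (g x) = 0

/-- the images of `W` are `W` and the `tau`-orbit of `γ {(a, 0, 0)}` -/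
def Orb (H : Subgroup (GA K)) (γ : GA K) : Prop :=
  ∀ g ∈ H, FixW g ∨ ∃ b c, c + σ c + b * σ b = 0 ∧ ∀ f, ∃ a, g (0, 0, f) = tau σ b c (γ (a, 0, 0))

end CL.U5
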