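/-
S5258: a group permuting the standard unital contains `SU₃(q)`.
-/
import Cfsg.Agent.FUS.U5.OmD

set_option autoImplicit false
set_option linter.unusedSimpArgs false
set_option linter.unusedSectionVars false
set_option linter.unusedVariables false

namespace CL.U5

open CL.Fus Subgroup Un S4F

variable {K : Type*} [Field K] [Finite K] {σ : K →+* K} [T : Un σ] {H : Subgroup (GA K)}

namespace LAA

theorem onto {g : GA K} {φ : K → K × K × K} (h : ∀ f, ∃ a, g (0, 0, f) = φ a) (a : K) : ∃ f, g (0, 0, f) = φ a := by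
  choose α hα using h
  obtain ⟨f, rfl⟩ := Finite.injective_iff_surjective.1 (show Function.Injective α from fun f f' e =>
    congrArg (·.2.2) (g.injective ((hα f).trans (e ▸ (hα f').symm)))) a
  exact ⟨f, hα f⟩

theorem eq_of_om {l l' : K} (h : ∀ a, l * σ a - σ l * a = l' * σ a - σ l' * a) : l = l' :=
  sub_eq_zero.1 (lin_ind (σ := σ) (x := σ l - σ l') fun a => by linear_combination -h a).2

/-- the opposite root group -/
theorem opp (h : Om0 σ H) (ho : Orb σ H 1) {b c : K} (hc : c ≠ 0) (k : c + σ c + b * σ b = 0) :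
    ∃ t ∈ H, ∀ a d f, t (a, d, f) = (a - d * σ (b / c) + f / c, d + f * (b / c), f) := by
  obtain ⟨g, hg, e⟩ : ∃ g ∈ H, ∀ f, ∃ a, g (0, 0, f) = (a, 0, 0) := by
    obtain ⟨g, hg, k⟩ := h.mv
    obtain ⟨b, c, k1, k2⟩ := (ho g hg).resolve_left k
    exact ⟨(tau σ b c)⁻¹ * g, H.mul_mem (H.inv_mem (h.tau b c k1)) hg, fun f => (k2 f).imp fun a e => by
      rw [LinearEquiv.mul_apply, e]; exact (tau σ b c).symm_apply_apply _⟩
  have e1 : ∀ v, g (g⁻¹ v) = v := g.apply_symm_apply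
  have e2 : ∀ v, g⁻¹ (g v) = v := g.symm_apply_apply
  obtain ⟨b₁, c₁, k1, m1⟩ := (ho _ (H.inv_mem hg)).resolve_left fun m => by
    obtain ⟨f, m⟩ := m 1
    obtain ⟨a, m'⟩ := e f
    rw [← m, e1] at m'
    simp at m'
  obtain ⟨b₂, c₂, k2, m2⟩ := (ho _ (H.mul_mem (H.mul_mem (H.inv_mem hg) (h.tau b c k)) hg)).resolve_left fun m => by
    obtain ⟨f, m⟩ := m 1
    obtain ⟨a, m1⟩ := e 1
    obtain ⟨a', m2⟩ := e f
    rw [← m, LinearEquiv.mul_apply, LinearEquiv.mul_apply, e1, m1] at m2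
    obtain rfl : a = 0 := by simpa [hc] using congrArg (·.2.2) m2
    simpa using g.injective (m1.trans (map_zero g).symm)
  have k3 : c₂ - c₁ + b₁ * σ (b₂ - b₁) + σ (c₂ - c₁ + b₁ * σ (b₂ - b₁)) + (b₂ - b₁) * σ (b₂ - b₁) = 0 := by
    simp only [map_add, map_sub, map_mul, T.sq]; linear_combination k2 - k1
  have k4 := tau_mul σ b₁ c₁ (b₂ - b₁) (c₂ - c₁ + b₁ * σ (b₂ - b₁))
  rw [add_sub_cancel, show c₁ + _ - _ = c₂ by ring] at k4
  generalize b₂ - b₁ = b' at k3 k4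
  generalize c₂ - c₁ + b₁ * σ b' = c' at k3 k4
  obtain ⟨t, ht, et⟩ : ∃ t ∈ H, ∀ v, t v = g (tau σ b' c' (g⁻¹ v)) :=
    ⟨g * tau σ b' c' * g⁻¹, H.mul_mem (H.mul_mem hg (h.tau _ _ k3)) (H.inv_mem hg), fun v => rfl⟩
  have p1 : ∀ x y, om σ (t x) (t y) = om σ x y := fun x y => by
    rw [et, et, h.om g hg _ _ _ _ (om_tau σ k3 _ _), e1, e1]
  have p2 : ∀ a, t (a, 0, 0) = (a, 0, 0) := fun a => by
    obtain ⟨f, m⟩ := onto (φ := fun a => (a, 0, 0)) e a
    rw [← m, et, e2]; simp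
  have p3 : ∀ f, t (0, 0, f) = (f / c, f * (b / c), f) := fun f => by
    obtain ⟨a, m⟩ := m1 f
    obtain ⟨f', m'⟩ := onto (φ := fun a => tau σ b₂ c₂ ((1 : GA K) (a, 0, 0))) m2 a
    obtain ⟨a', m''⟩ := e f'
    have : t (0, 0, f) = (a', a' * b, a' * c) := by
      rw [et, m, ← LinearEquiv.mul_apply (tau σ b' c'), k4, ← m', LinearEquiv.mul_apply, LinearEquiv.mul_apply, e1, m'']; simp
    obtain rfl : a' * c = f := eq_of_om (σ := σ) fun a => by simpa [this, p2, om, hh, T.sq] using p1 (0, 0, f) (a, 0, 0)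
    rw [this]; field_simp
  have p4 : ∀ d, t (0, d, 0) = (-(d * σ (b / c)), d, 0) := fun d => by
    obtain ⟨a, m⟩ : ∃ a, t (0, d, 0) = (a, d, 0) := by
      have : (g⁻¹ (0, d, 0)).1 = 0 := eq_of_om (σ := σ) fun f => by
        obtain ⟨a, m⟩ := e f
        have := h.om _ (H.inv_mem hg) (0, d, 0) (a, 0, 0) 0 0 (by simp [om, hh])
        rw [← m, e2] at this
        simpa [om, hh, T.sq] using this
      generalize hv : g⁻¹ (0, d, 0) = v at this
      obtain ⟨a, d', f⟩ := v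
      obtain rfl : a = 0 := this
      obtain ⟨a, m⟩ := e (-(d' * σ b'))
      refine ⟨a, ?_⟩
      rw [et, hv, show tau σ b' c' (0, d', f) = (0, d', f) + (0, 0, -(d' * σ b')) by simp [sub_eq_add_neg], map_add, ← hv, e1, m]
      simp
    rw [m, show a = -(d * σ (b / c)) from eq_of_om (σ := σ) fun f => by
      have := p1 (0, d, 0) (0, 0, f)
      simp only [m, p3, om, hh, map_add, map_mul, map_neg, map_zero, T.sq] at this ⊢
      linear_combination this]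
  refine ⟨t, ht, fun a d f => ?_⟩
  rw [show (a, d, f) = (a, 0, 0) + (0, d, 0) + (0, 0, f) by simp, map_add, map_add, p2, p3, p4]
  simp [sub_eq_add_neg]

end LAA

/-- Points: `W = K (0,0,1)`, `P(b,c) = K (1,b,c) = tau b c W⁻`, `W⁻ = P(0,0)`. Take `g₀ ∈ H` with `g₀ W = W⁻` (`mv`, `Orb`, multiply by `tau⁻¹`; onto by finiteness). `g₀ W^⊥ = (W⁻)^⊥ = {f = 0}` (`h.om`).
`t' = g₀ tau b c g₀⁻¹` preserves `om` (`h.om`, `om_tau`), fixes `W⁻` pointwise, `t' x - x ∈ W⁻` for `x ∈ (W⁻)^⊥`, `t' x - x ∈ (W⁻)^⊥` for all `x`. By `Orb`, `t' (0,0,f) = f (x, y, 1)` with `x + σ x + y σ y = 0`;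
`om (t' (0,d,0)) (t' (0,0,f)) = 0` gives `t' (0,d,0) = (-d σ y, d, 0)` (`eq_zero_of_real`). So `t' (a,d,f) = (a - d σ y + f x, d + f y, f)`.
All `(x, y)` with `x ≠ 0` occur: `P = P(y/x, 1/x)`; `g₀⁻¹ W = P(b₁,c₁)` and `g₀⁻¹ P = g₀⁻¹ tau g₀ W = P(b₂,c₂)` (both differ from `W`), some `tau` maps the first to the second (`tau_mul`), so `t' W ≤ P`, which determines `(x, y)`.
For `x ≠ 0` choose `y` with `y σ y = -(x + σ x)` (`T.nrm`); `nn x = tau (-y/x) (1/σ x) * t' * tau (-y/σ x) (1/σ x)` (`ext3`, `field_simp`). -/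
theorem nn_mem (h : Om0 σ H) (ho : Orb σ H 1) (x : Kˣ) : nn σ x ∈ H := by
  have n1 := x.ne_zero
  have n2 := (map_ne_zero σ).2 n1
  obtain ⟨y, hy⟩ := T.nrm (-(x + σ x)) (by simp [T.sq, add_comm])
  obtain ⟨t, ht, e⟩ := LAA.opp h ho (b := y / x) (c := 1 / x) (one_div_ne_zero n1) (by
    simp only [map_div₀, map_one]; field_simp; linear_combination hy)
  rw [show y / x / (1 / x) = y by field_simp] at e
  rw [show nn σ x = tau σ (-y / x) (1 / σ x) * t * tau σ (-y / σ x) (1 / σ x) from ext3 fun a d f => by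
    simp only [LinearEquiv.mul_apply, tau_apply, e, nn_apply, map_div₀, map_neg, T.sq, Prod.mk.injEq]
    refine ⟨?_, ?_, ?_⟩ <;> field_simp <;> grind]
  refine H.mul_mem (H.mul_mem (h.tau _ _ ?_) ht) (h.tau _ _ ?_) <;> simp only [map_div₀, map_one, map_neg, T.sq] <;> field_simp <;>
    linear_combination hy

/-- twisting by `gam` -/
theorem nn_mem' (h : Om0 σ H) {δ κ φ : K} (h1 : 2 * δ = 0) (h2 : φ + σ φ = δ * σ δ) (ho : Orb σ H (gam σ δ κ φ)) (x : Kˣ) :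
    gam σ δ κ φ * nn σ x * (gam σ δ κ φ)⁻¹ ∈ H := by
  set γ := gam σ δ κ φ with hγ
  have e1 : ∀ v, γ (γ⁻¹ v) = v := γ.apply_symm_apply
  have e2 : ∀ v, γ⁻¹ (γ v) = v := γ.symm_apply_apply
  have w1 : ∀ f, γ (0, 0, f) = (0, 0, f) := fun f => by simp [hγ]
  have w2 : ∀ f, γ⁻¹ (0, 0, f) = (0, 0, f) := fun f => by rw [← w1, e2, w1]
  have o1 : ∀ x y, om σ (γ x) (γ y) = om σ x y := om_gam σ h1 h2
  refine nn_mem (H := H.comap (MulAut.conj γ).toMonoidHom) ⟨fun b c k => ?_, fun g hg x y x' y' e => ?_, ?_⟩ (fun g hg => ?_) x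
  · change γ * _ * _ ∈ H
    rw [gam_tau, mul_inv_cancel_right]; exact h.tau b c k
  · have := h.om _ hg (γ x) (γ y) (γ x') (γ y') (by rwa [o1, o1])
    simpa only [MulEquiv.coe_toMonoidHom, MulAut.conj_apply, LinearEquiv.mul_apply, e2, o1] using this
  · obtain ⟨g, hg, k⟩ := h.mv
    refine ⟨γ⁻¹ * g * γ, by simpa [mul_assoc] using hg, fun k' => k fun f => ?_⟩
    obtain ⟨f', e⟩ := k' f
    exact ⟨f', by rw [← w1 f', ← e, LinearEquiv.mul_apply, LinearEquiv.mul_apply, e1, w1]⟩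
  · rcases ho _ hg with k | ⟨b, c, k, k'⟩
    · refine Or.inl fun f => ?_
      obtain ⟨f', e⟩ := k f
      exact ⟨f', by rw [← w2 f', ← e]; simp only [MulEquiv.coe_toMonoidHom, MulAut.conj_apply, LinearEquiv.mul_apply, e2, w2]⟩
    · refine Or.inr ⟨b, c, k, fun f => ?_⟩
      obtain ⟨a, e⟩ := k' f
      refine ⟨a, γ.injective ?_⟩
      rw [← LinearEquiv.mul_apply (tau σ b c), ← gam_tau] at e
      simpa only [MulEquiv.coe_toMonoidHom, MulAut.conj_apply, LinearEquiv.mul_apply, w2, LinearEquiv.coe_one, id] using e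

end CL.U5
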