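/-
S5258: the conjugates of `Z₂ / Z` in `Q₁ / Z` form a unital.
-/
import Cfsg.Agent.FUS.U5.OmD
import Cfsg.Agent.FUS.S4.Beta2

set_option autoImplicit false
set_option linter.unusedSimpArgs false
set_option linter.unusedSectionVars false
set_option linter.unusedVariables false

namespace CL.U5

open CL.Fus Subgroup Un S4F

variable {K : Type*} [Field K] [Finite K] {σ : K →+* K} [T : Un σ] {p : ℕ} [Fact p.Prime] [CharP K p] {H : Subgroup (GA K)}

namespace OmA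

theorem app_inv (g : GA K) (v : K × K × K) : g (g⁻¹ v) = v := g.apply_symm_apply v
theorem inv_app (g : GA K) (v : K × K × K) : g⁻¹ (g v) = v := g.symm_apply_apply v

/-- the stabiliser of `W` -/
def NW : Subgroup (GA K) where
  carrier := {g | FixW g}
  one_mem' f := ⟨f, rfl⟩
  mul_mem' {a b} ha hb f := let ⟨f', e⟩ := hb f; let ⟨f'', e'⟩ := ha f'; ⟨f'', by rw [LinearEquiv.mul_apply, e, e']⟩
  inv_mem' {a} ha f := by
    choose A hA using ha
    obtain ⟨f', rfl⟩ := (Finite.injective_iff_surjective (f := A)).1 (fun x y e => by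
      simpa using a.injective (show a (0, 0, x) = a (0, 0, y) by rw [hA, hA, e])) f
    exact ⟨f', by rw [← hA, inv_app]⟩

/-- the stabiliser of the chain `0 ≤ M ≤ N ≤ V` -/
def chain (M N : AddSubgroup (K × K × K)) : Subgroup (GA K) where
  carrier := {k | (∀ v ∈ M, k v = v) ∧ (∀ v ∈ N, k v - v ∈ M) ∧ ∀ v, k v - v ∈ N}
  one_mem' := by simp
  mul_mem' {a b} ha hb := ⟨fun v hv => by rw [LinearEquiv.mul_apply, hb.1 v hv, ha.1 v hv], fun v hv => by
    have := add_mem (ha.2.1 _ (by simpa using add_mem (hb.2.2 v) hv : b v ∈ N)) (hb.2.1 v hv)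
    rwa [sub_add_sub_cancel] at this, fun v => by
    have := add_mem (ha.2.2 (b v)) (hb.2.2 v)
    rwa [sub_add_sub_cancel] at this⟩
  inv_mem' {a} ha := by
    have h3 : ∀ v, a⁻¹ v - v ∈ N := fun v => by
      have := neg_mem (ha.2.2 (a⁻¹ v))
      rwa [app_inv, neg_sub] at this
    refine ⟨fun v hv => by rw [← ha.1 v hv, inv_app, ha.1 v hv], fun v hv => ?_, h3⟩
    have := neg_mem (ha.2.1 (a⁻¹ v) (by simpa using add_mem (h3 v) hv))
    rwa [app_inv, neg_sub] at this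

theorem isPGroup_chain (p : ℕ) [CharP K p] (M N : AddSubgroup (K × K × K)) : IsPGroup p (chain M N) :=
  fun ⟨k, a1, a2, a3⟩ => ⟨2, Subtype.ext (LinearEquiv.ext fun v => by
    have b1 : ∀ v, (k ^ p) v - v ∈ M := fun v => by
      have := Bt.Ct.pow_app (N := M) (fun w hw => by rwa [a1 w hw]) (a2 _ (a3 v)) p
      rwa [Bt.Ct.p_smul, sub_zero] at this
    have b2 := Bt.Ct.pow_app (k := k ^ p) (N := ⊥) (v := v) (by simp)
      (by rw [(pow_mem (show k ∈ chain M N from ⟨a1, a2, a3⟩) p).1 _ (b1 v), sub_self]; exact zero_mem _) p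
    rw [Bt.Ct.p_smul, sub_zero, AddSubgroup.mem_bot, sub_eq_zero, ← pow_mul, ← pow_two] at b2
    exact b2)⟩

variable (σ) in
/-- a long root element -/
noncomputable def t0 : GA K := tau σ 0 (θ σ - σ (θ σ))

theorem t0_sub (v : K × K × K) : t0 σ v - v = (0, 0, v.1 * (θ σ - σ (θ σ))) := by
  obtain ⟨a, d, f⟩ := v; simp [t0]

theorem t0_fix {v : K × K × K} (h : v.1 = 0) : t0 σ v = v := sub_eq_zero.1 (by rw [t0_sub, h, zero_mul]; rfl)

theorem cj_sub (g : GA K) (v : K × K × K) : (g * t0 σ * g⁻¹) v - v = g (0, 0, (g⁻¹ v).1 * (θ σ - σ (θ σ))) := by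
  rw [← t0_sub, map_sub, app_inv]; rfl

theorem om_W (f : K) (v : K × K × K) : om σ (0, 0, f) v = f * σ v.1 - σ f * v.1 := by simp [om, hh, T.sq]

theorem om_symm (x y : K × K × K) : om σ x y = -om σ y x := by simp only [om, hh, map_add, map_mul, T.sq]; ring

theorem fst_of {v : K × K × K} (h : ∀ f, om σ (0, 0, f) v = 0) : v.1 = 0 :=
  (map_eq_zero σ).1 (eq_zero_of_real (σ := σ) fun x => by rw [T.sq]; linear_combination h x - om_W (σ := σ) x v)

theorem fixW_of {m : GA K} {b c : K} (e : m * t0 σ * m⁻¹ = tau σ b c) : m ∈ (NW : Subgroup (GA K)) := by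
  have k := cj_sub (σ := σ) m
  have k1 : tau σ b c (tau σ b c (1, 0, 0) - (1, 0, 0)) = tau σ b c (1, 0, 0) - (1, 0, 0) := by
    rw [← e, k, LinearEquiv.mul_apply, inv_app, LinearEquiv.mul_apply, t0_fix rfl]
  obtain rfl : b = 0 := by simpa using k1
  intro f
  have := k (m (f / (θ σ - σ (θ σ)), 0, 0))
  rw [inv_app, div_mul_cancel₀ _ (θ_sub σ), e] at this
  generalize m (f / (θ σ - σ (θ σ)), 0, 0) = v at this
  obtain ⟨a, d, f'⟩ := v
  exact ⟨a * c, by rw [← this]; simp⟩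

/-- the perp of a vector -/
def pp (σ : K →+* K) (w : K × K × K) : AddSubgroup (K × K × K) where
  carrier := {v | om σ w v = 0}
  zero_mem' := by simp [om, hh]
  add_mem' {a b} ha hb := by simp only [Set.mem_ofPred_eq, om, hh, Prod.fst_add, Prod.snd_add, map_add, map_mul] at *; linear_combination ha + hb
  neg_mem' {a} ha := by simp only [Set.mem_ofPred_eq, om, hh, Prod.fst_neg, Prod.snd_neg, map_neg, map_add, map_mul] at *; linear_combination -ha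

theorem t0_chain (h2 : (2 : K) = 0) {f : K} (hf : f ≠ 0) : t0 σ ∈ chain (⨅ u ∈ pp σ (0, 0, f), pp σ u) (pp σ (0, 0, f)) := by
  simp only [chain, mem_mk, Submonoid.mem_mk, Subsemigroup.mem_mk, Set.mem_ofPred_eq, AddSubgroup.mem_iInf, t0_sub]
  refine ⟨fun v hv => t0_fix (fst_of fun f' => hv _ (show om σ _ _ = 0 by simp [om_W])), fun v hv u hu => ?_,
    fun v => show om σ _ _ = 0 by simp [om_W]⟩
  replace hv : f * σ v.1 - σ f * v.1 = 0 := om_W (σ := σ) f v ▸ hv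
  replace hu : f * σ u.1 - σ f * u.1 = 0 := om_W (σ := σ) f u ▸ hu
  show om σ _ _ = 0
  rw [om_symm, om_W, neg_eq_zero, map_mul, map_sub, T.sq]
  refine mul_left_cancel₀ hf ?_
  linear_combination (θ σ - σ (θ σ)) * (v.1 * hu + u.1 * hv + σ f * u.1 * v.1 * h2)

variable {g : GA K}

theorem perp (h : Om0 σ H) (hg : g ∈ H) {x y : K × K × K} : om σ (g x) (g y) = 0 ↔ om σ x y = 0 := by
  have k : ∀ g ∈ H, ∀ x y, om σ x y = 0 → om σ (g x) (g y) = 0 := fun g hg x y e => by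
    rw [h.om g hg x y 0 0 (by simpa [om, hh] using e)]; simp [om, hh]
  exact ⟨fun e => by simpa only [inv_app] using k _ (inv_mem hg) _ _ e, k g hg x y⟩

theorem ksub (h : Om0 σ H) (hg : g ∈ H) {s : K} (hs : σ s = s) (f : K) : ∃ f', g (0, 0, f') = s • g (0, 0, f) := by
  have k : ∀ u : K × K × K, u.1 = 0 → om σ u (g⁻¹ (s • g (0, 0, f))) = 0 := fun u hu => by
    have := (perp h hg (x := u) (y := (0, 0, f))).2 (by rw [om_symm, om_W, hu]; simp)
    rw [← perp h hg, app_inv]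
    simp only [om, hh, Prod.smul_fst, Prod.smul_snd, smul_eq_mul, map_add, map_mul, hs, T.sq] at *
    linear_combination s * this
  have k1 := fst_of fun f' => k (0, 0, f') rfl
  have k2 : (g⁻¹ (s • g (0, 0, f))).2.1 = 0 := (map_eq_zero σ).1 (eq_zero_of_real (σ := σ) fun x => by
    have := k (0, x, 0) rfl
    simp only [om, hh, map_add, map_mul, T.sq, map_zero] at *
    linear_combination this)
  exact ⟨(g⁻¹ (s • g (0, 0, f))).2.2, Eq.trans (congrArg g (Prod.ext k1.symm (Prod.ext k2.symm rfl))) (app_inv g (s • g (0, 0, f)))⟩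

variable (h : Om1 σ p H)
include h

theorem t0_mem : t0 σ ∈ H := h.tau _ _ (by simp [T.sq])

theorem factA (hg : g ∈ H) {M N : AddSubgroup (K × K × K)} (h1 : t0 σ ∈ chain M N) (h2 : g * t0 σ * g⁻¹ ∈ chain M N) : g ∈ NW := by
  obtain ⟨T₀, hT, e⟩ := h.syl
  obtain ⟨m, -, k⟩ := hT.exists_conj_le (C := H ⊓ chain M N) inf_le_left ((isPGroup_chain p M N).to_le inf_le_right)
  obtain ⟨b, c, -, e1⟩ := (e _).1 (k _ ⟨t0_mem h, h1⟩)
  obtain ⟨b', c', -, e2⟩ := (e _).1 (k _ ⟨H.mul_mem (H.mul_mem hg (t0_mem h)) (H.inv_mem hg), h2⟩)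
  exact (NW.mul_mem_cancel_left (fixW_of e1)).1 (fixW_of (m := m * g) (by rw [← e2]; group))

theorem factB (hg : g ∈ H) (k : ∀ f, (g (0, 0, f)).1 = 0) : g ∈ NW := by
  let M : AddSubgroup (K × K × K) :=
    { carrier := {v | v.1 = 0 ∧ (g⁻¹ v).1 = 0}
      zero_mem' := by simp
      add_mem' := fun ha hb => ⟨by rw [Prod.fst_add, ha.1, hb.1, add_zero], by rw [map_add, Prod.fst_add, ha.2, hb.2, add_zero]⟩
      neg_mem' := fun ha => ⟨by rw [Prod.fst_neg, ha.1, neg_zero], by rw [map_neg, Prod.fst_neg, ha.2, neg_zero]⟩ }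
  have m1 : ∀ v, t0 σ v - v ∈ M := fun v => t0_sub (σ := σ) v ▸ ⟨rfl, fst_of (σ := σ) fun f => by
    rw [← perp h.toOm0 hg, app_inv, om_symm, om_W, k]; simp⟩
  have m2 : ∀ v, (g * t0 σ * g⁻¹) v - v ∈ M := fun v => cj_sub (σ := σ) g v ▸ ⟨k _, by rw [inv_app]⟩
  exact factA h hg (M := M) (N := M) ⟨fun v hv => t0_fix hv.1, fun v _ => m1 v, m1⟩
    ⟨fun v hv => sub_eq_zero.1 (by rw [cj_sub, hv.2, zero_mul]; exact map_zero g), fun v _ => m2 v, m2⟩

theorem step1 (hg : g ∈ H) {f : K} (e : (g (0, 0, f)).1 = 0) : ∃ f', g (0, 0, f) = (0, 0, f') := by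
  obtain ⟨T₀, hT, e'⟩ := h.syl
  have p0 : IsPGroup p (zpowers (g⁻¹ * t0 σ * g⁻¹⁻¹)) := by
    obtain ⟨k, hk⟩ := hT.isPGroup ⟨t0 σ, (e' _).2 ⟨_, _, by simp [T.sq], rfl⟩⟩
    exact isPGroup_zpowers_of_pow_eq_one (k := k) (by rw [conj_pow, show t0 σ ^ p ^ k = 1 from congrArg Subtype.val hk]; simp)
  obtain ⟨x, hx, k⟩ := (hT.of_le (C := H ⊓ MulAction.stabilizer (GA K) ((0, 0, f) : K × K × K)) (fun t ht => ⟨hT.le ht, by
    obtain ⟨b, c, -, rfl⟩ := (e' t).1 ht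
    exact show tau σ b c _ = _ by simp⟩) inf_le_left).exists_conj_le (zpowers_le.2
      ⟨H.mul_mem (H.mul_mem (H.inv_mem hg) (t0_mem h)) (H.inv_mem (H.inv_mem hg)), show g⁻¹ (t0 σ (g _)) = _ by rw [t0_fix e, inv_app]⟩) p0
  obtain ⟨b, c, -, e1⟩ := (e' _).1 (k _ (mem_zpowers _))
  obtain ⟨f', e2⟩ := inv_mem (fixW_of (m := x * g⁻¹) (by rw [← e1]; group)) f
  exact ⟨f', by rw [← e2, mul_inv_rev, inv_inv, LinearEquiv.mul_apply, show x⁻¹ (0, 0, f) = (0, 0, f) from (inv_mem hx).2]⟩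

end OmA

open OmA

theorem opp (h : Om1 σ p H) {g : GA K} (hg : g ∈ H) {f : K} (hf : f ≠ 0) (e : (g (0, 0, f)).1 = 0) : FixW g := by
  obtain ⟨w, hw⟩ := step1 h hg e
  have w0 : w ≠ 0 := fun k => hf (congrArg (·.2.2) (g.injective (hw.trans (by rw [k]; exact (map_zero g).symm))))
  by_cases h2 : (2 : K) = 0
  · obtain ⟨k1, k2, k3⟩ := t0_chain (σ := σ) h2 hf
    have m : ∀ {u v}, g v ∈ pp σ (g u) ↔ v ∈ pp σ u := perp h.toOm0 hg
    have m' : ∀ {v}, g v ∈ (⨅ u ∈ pp σ (g (0, 0, f)), pp σ u) ↔ v ∈ ⨅ u ∈ pp σ (0, 0, f), pp σ u := fun {v} => by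
      simp only [AddSubgroup.mem_iInf]
      exact ⟨fun k u hu => m.1 (k _ (m.2 hu)), fun k u hu => by
        obtain ⟨u, rfl⟩ := g.surjective u
        exact m.2 (k u (m.1 hu))⟩
    have ev : ∀ v, (g * t0 σ * g⁻¹) (g v) = g (t0 σ v) := fun v => by rw [LinearEquiv.mul_apply, inv_app]; rfl
    refine factA h hg (t0_chain h2 w0) (hw ▸ ⟨fun v => ?_, fun v => ?_, fun v => ?_⟩) <;> obtain ⟨v, rfl⟩ := g.surjective v
    · exact fun hv => by rw [ev, k1 v (m'.1 hv)]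
    · exact fun hv => by rw [ev, ← map_sub]; exact m'.2 (k2 v (m.1 hv))
    · rw [ev, ← map_sub]; exact m.2 (k3 v)
  by_contra hn
  obtain ⟨f₁, ha⟩ := not_forall.1 (mt (factB h hg) hn)
  obtain ⟨⟨a, d, e₁⟩, hv⟩ : ∃ v, g (0, 0, f₁) = v := ⟨_, rfl⟩
  rw [hv] at ha
  replace ha : a ≠ 0 := ha
  have ha' := (map_ne_zero σ).2 ha
  have iso : ∀ f f', om σ (g (0, 0, f)) (g (0, 0, f')) = 0 := fun f f' => (perp h.toOm0 hg).2 (by simp [om_W])
  have dec : ∀ f', ∃ s x, σ s = s ∧ x * σ a = σ x * a ∧ g (0, 0, f') = (s * a, s * d, s * e₁ + x) := fun f' => by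
    have k1 := iso f f'
    have k2 := iso f f₁
    rw [hw, om_W] at k1 k2
    rw [hv] at k2
    have hs : σ ((g (0, 0, f')).1 / a) = (g (0, 0, f')).1 / a := by
      rw [map_div₀, div_eq_div_iff ha' ha]; exact mul_left_cancel₀ w0 (by linear_combination a * k1 - (g (0, 0, f')).1 * k2)
    obtain ⟨f₂, k3⟩ := ksub h.toOm0 hg hs f₁
    have k4 : g (0, 0, f' - f₂) = g (0, 0, f') - ((g (0, 0, f')).1 / a) • (a, d, e₁) := by rw [← hv, ← k3, ← map_sub]; simp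
    obtain ⟨x, k5⟩ := step1 h hg (f := f' - f₂) (by rw [k4]; simp [ha])
    have k6 := iso (f' - f₂) f₁
    rw [k5, om_W, hv] at k6
    exact ⟨_, x, hs, sub_eq_zero.1 k6, by rw [eq_add_of_sub_eq (k4.symm.trans k5)]; simp [add_comm, ha]⟩
  obtain ⟨c, c1, c2⟩ : ∃ c, c + σ c + 1 * σ 1 = 0 ∧ a * σ a * (c - σ c) = 2 * (d * σ a - a * σ d) :=
    ⟨-1 / 2 + (d * σ a - a * σ d) / (a * σ a), by
      constructor <;> simp only [map_add, map_div₀, map_neg, map_one, map_ofNat, map_sub, map_mul, T.sq] <;> field_simp <;> ring⟩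
  obtain ⟨f₂, k⟩ := factB h (mul_mem (mul_mem (inv_mem hg) (h.tau 1 c c1)) hg) (fun f' => fst_of (σ := σ) fun f'' => by
    obtain ⟨s, x, hs, hx, k⟩ := dec f'
    obtain ⟨s', x', hs', hx', k'⟩ := dec f''
    rw [← perp h.toOm0 hg, LinearEquiv.mul_apply, LinearEquiv.mul_apply, app_inv, k, k']
    simp only [om, hh, tau_apply, map_add, map_sub, map_mul, map_one, T.sq, hs, hs']
    linear_combination s * hx' - s' * hx - s * s' * c2) f₁
  rw [LinearEquiv.mul_apply, LinearEquiv.mul_apply, hv] at k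
  have k1 : g (0, 0, f₂ - f₁) = tau σ 1 c (a, d, e₁) - (a, d, e₁) := by rw [← app_inv g (tau σ 1 c _), k, ← hv, ← map_sub]; simp
  obtain ⟨x, k2⟩ := step1 h hg (f := f₂ - f₁) (by rw [k1]; simp)
  simpa [ha] using congrArg (fun v => v.2.1) (k1.symm.trans k2)

namespace OmA

variable (σ) in
/-- `g W = {(a, b a + δ σ a, φ a + κ σ a)}` -/
def Dat (g : GA K) (b δ φ κ : K) : Prop :=
  (∀ f, ∃ a, g (0, 0, f) = (a, b * a + δ * σ a, φ * a + κ * σ a)) ∧ ∀ a, ∃ f, g (0, 0, f) = (a, b * a + δ * σ a, φ * a + κ * σ a)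

variable {g g' : GA K} {b δ φ κ b' δ' φ' κ' : K}

theorem Dat.tau (d : Dat σ g b δ φ κ) (b' c : K) : Dat σ (tau σ b' c * g) (b + b') δ (φ + c - b * σ b') (κ - δ * σ b') :=
  have e : ∀ a, U5.tau σ b' c (a, b * a + δ * σ a, φ * a + κ * σ a) =
      (a, (b + b') * a + δ * σ a, (φ + c - b * σ b') * a + (κ - δ * σ b') * σ a) := fun a => by simp; constructor <;> ring
  ⟨fun f => let ⟨a, k⟩ := d.1 f; ⟨a, by rw [LinearEquiv.mul_apply, k, e]⟩,
    fun a => let ⟨f, k⟩ := d.2 a; ⟨f, by rw [LinearEquiv.mul_apply, k, e]⟩⟩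

variable (h : Om1 σ p H) (hg : g ∈ H)
include h hg

theorem exists_dat (hn : ¬ FixW g) : ∃ b δ φ κ, Dat σ g b δ φ κ := by
  have inj : Function.Injective fun f => (g (0, 0, f)).1 := fun f f' e => sub_eq_zero.1 (by
    by_contra k
    exact hn (opp h hg k (by rw [show ((0, 0, f - f') : K × K × K) = (0, 0, f) - (0, 0, f') by simp, map_sub]; exact sub_eq_zero.2 e)))
  obtain ⟨f₁, e₁⟩ := Finite.injective_iff_surjective.1 inj 1
  obtain ⟨f₂, e₂⟩ := Finite.injective_iff_surjective.1 inj (θ σ)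
  have sol : ∀ x y : K, ∃ b δ, b + δ = x ∧ b * θ σ + δ * σ (θ σ) = y := fun x y =>
    ⟨x - (x * θ σ - y) / (θ σ - σ (θ σ)), (x * θ σ - y) / (θ σ - σ (θ σ)), by ring, by have := θ_sub σ; field_simp; ring⟩
  obtain ⟨b, δ, k1, k2⟩ := sol (g (0, 0, f₁)).2.1 (g (0, 0, f₂)).2.1
  obtain ⟨φ, κ, k3, k4⟩ := sol (g (0, 0, f₁)).2.2 (g (0, 0, f₂)).2.2
  have k : ∀ a, ∃ f, g (0, 0, f) = (a, b * a + δ * σ a, φ * a + κ * σ a) := fun a => by
    obtain ⟨c, c', hc, hc', rfl⟩ := decomp (σ := σ) a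
    obtain ⟨f, k5⟩ := ksub h.toOm0 hg hc f₁
    obtain ⟨f', k6⟩ := ksub h.toOm0 hg hc' f₂
    refine ⟨f + f', ?_⟩
    rw [show ((0, 0, f + f') : K × K × K) = (0, 0, f) + (0, 0, f') by simp, map_add, k5, k6]
    simp only at e₁ e₂
    ext <;> simp only [Prod.fst_add, Prod.snd_add, Prod.smul_fst, Prod.smul_snd, smul_eq_mul, e₁, e₂, ← k1, ← k2, ← k3, ← k4, map_add,
      map_mul, hc, hc'] <;> ring
  exact ⟨b, δ, φ, κ, fun f => let ⟨f', e⟩ := k (g (0, 0, f)).1; ⟨_, (inj (show (g (0, 0, f')).1 = (g (0, 0, f)).1 by rw [e]) : f' = f) ▸ e⟩, k⟩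

theorem Dat.tr (d : Dat σ g b δ φ κ) : φ + σ φ + b * σ b = δ * σ δ := by
  obtain ⟨f, e⟩ := d.2 1
  obtain ⟨f', e'⟩ := d.2 (θ σ)
  have := (perp h.toOm0 hg (x := (0, 0, f')) (y := (0, 0, f))).2 (by simp [om_W])
  rw [e, e'] at this
  simp only [om, hh, map_add, map_mul, map_one, T.sq] at this
  exact mul_left_cancel₀ (θ_sub σ) (by linear_combination this)

theorem Dat.kap (d : Dat σ g 0 δ φ κ) (h2 : (2 : K) = 0) : κ = 0 := by
  have t := d.tr h hg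
  have k : ∀ a, a * a * σ κ + κ * (σ a * σ a) = 0 := fun a => by
    obtain ⟨f, e⟩ := d.2 a
    have := h.sing h2 g hg (0, 0, f) (by simp [hh])
    rw [e] at this
    simp only [hh, map_add, map_mul, map_zero, T.sq] at this t
    linear_combination this - a * σ a * t - a * σ a * δ * σ δ * h2
  have k1 := k 1
  simp only [map_one] at k1
  refine (mul_eq_zero.1 (show κ * (θ σ - σ (θ σ)) ^ 2 = 0 by
    linear_combination k (θ σ) - θ σ * θ σ * k1 + κ * θ σ * (θ σ - σ (θ σ)) * h2)).resolve_right (pow_ne_zero 2 (θ_sub σ))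

theorem Dat.pair (hg' : g' ∈ H) (d : Dat σ g 0 δ φ κ) (d' : Dat σ g' b δ' φ' κ') {μ ν : K} (hμ : μ = σ φ' + φ - σ δ * δ')
    (hν : ν = σ κ' - σ κ - σ δ * b) (e : μ * σ μ = ν * σ ν) : b = 0 ∧ δ' = δ ∧ κ' = κ := by
  obtain ⟨a, ha, k⟩ : ∃ a, a ≠ 0 ∧ μ * σ a + ν * a = 0 := by
    by_cases k : μ = 0
    · rw [k, zero_mul] at e
      exact ⟨1, one_ne_zero, by simp [k, norm_eq_zero e.symm]⟩
    have := (map_ne_zero σ).2 k
    obtain ⟨a, ha, k'⟩ := h90 (σ := σ) (c := -ν / μ) (by rw [map_div₀, map_neg]; field_simp; exact e.symm)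
    exact ⟨a, ha, by rw [k']; field_simp; ring⟩
  obtain ⟨f, e1⟩ := d'.2 a
  have k1 := opp h (mul_mem (inv_mem hg) hg') (f := f) (by rintro rfl; exact ha (congrArg Prod.fst (e1.symm.trans (map_zero g'))))
    (fst_of (σ := σ) fun f' => by
      obtain ⟨a', e2⟩ := d.1 f'
      have k' := congrArg σ k
      rw [← perp h.toOm0 hg, LinearEquiv.mul_apply, app_inv, e1, e2]
      simp only [om, hh, hμ, hν, map_add, map_sub, map_mul, map_zero, T.sq] at *
      linear_combination a' * k - σ a' * k')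
  have k2 : ∀ a, b * a + δ' * σ a = δ * σ a ∧ φ' * a + κ' * σ a = φ * a + κ * σ a := fun a => by
    obtain ⟨f, e1⟩ := d'.2 a
    obtain ⟨f', e2⟩ := k1 f
    obtain ⟨a', e3⟩ := d.1 f'
    rw [← e2, LinearEquiv.mul_apply, app_inv, e1, Prod.mk.injEq, Prod.mk.injEq] at e3
    obtain ⟨rfl, e4, e5⟩ := e3
    exact ⟨by simpa using e4, e5⟩
  have k3 := lin_ind (σ := σ) (x := b) (y := δ - δ') fun a => by linear_combination (k2 a).1
  have k4 := lin_ind (σ := σ) (x := φ' - φ) (y := κ - κ') fun a => by linear_combination (k2 a).2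
  exact ⟨k3.1, (sub_eq_zero.1 k3.2).symm, (sub_eq_zero.1 k4.2).symm⟩

theorem Dat.pair2 (hg' : g' ∈ H) (d : Dat σ g 0 δ φ κ) (d' : Dat σ g' 0 δ' φ' κ') (b μ : K)
    (h1 : μ + σ μ = (δ - δ') * σ (δ - δ') - b * σ b) {ν : K} (hν : ν = σ κ' - σ κ - b * (σ δ + σ δ')) (e : μ * σ μ = ν * σ ν) :
    b = 0 ∧ δ' = δ ∧ κ' = κ := by
  have t := d.tr h hg
  have t' := d'.tr h hg'
  obtain ⟨k1, k2, k3⟩ := d.pair h hg (mul_mem (h.tau b (σ μ - φ' - σ φ + δ * σ δ') (by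
    simp only [map_add, map_sub, map_mul, map_zero, T.sq] at *; linear_combination h1 - t - t')) hg') (d'.tau b _) (μ := μ) (ν := ν)
    (by simp only [map_add, map_sub, map_mul, map_zero, T.sq]; ring) (by simp only [hν, map_sub, map_mul, T.sq]; ring) e
  rw [zero_add] at k1
  exact ⟨k1, k2, by simpa [k1] using k3⟩

theorem Dat.two (d : Dat σ g 0 δ φ κ) : 2 * δ = 0 := by
  by_contra k
  have := (d.pair2 h hg hg d (4 * δ) (-(8 * (δ * σ δ))) (by simp only [map_neg, map_mul, map_ofNat, T.sq]; ring) rfl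
    (by simp only [map_neg, map_sub, map_add, map_mul, map_ofNat, T.sq]; ring)).1
  exact mul_ne_zero (left_ne_zero_of_mul k) k (by linear_combination this)

theorem Dat.eq (hg' : g' ∈ H) (d : Dat σ g 0 δ φ κ) (d' : Dat σ g' 0 δ' φ' κ') : δ' = δ ∧ κ' = κ := by
  by_cases h2 : (2 : K) = 0
  · obtain rfl := d.kap h hg h2
    obtain rfl := d'.kap h hg' h2
    exact (d.pair2 h hg hg' d' (δ + δ') ((δ + δ') * σ (δ + δ')) (by
      simp only [map_add, map_sub, map_mul, T.sq]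
      linear_combination ((δ + δ') * (σ δ + σ δ') + δ * σ δ' + δ' * σ δ) * h2) rfl
      (by simp only [map_add, map_sub, map_mul, map_zero, T.sq]; ring)).2
  obtain rfl := (mul_eq_zero.1 (d.two h hg)).resolve_left h2
  obtain rfl := (mul_eq_zero.1 (d'.two h hg')).resolve_left h2
  obtain ⟨b, hb⟩ := T.nrm (-(σ κ' - σ κ + (κ' - κ))) (by simp only [map_neg, map_add, map_sub, T.sq]; ring)
  exact (d.pair2 h hg hg' d' b (σ κ' - σ κ) (by simp [hb, T.sq]) rfl (by simp)).2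

end OmA

theorem orbit (h : Om1 σ p H) : ∃ δ κ φ, 2 * δ = 0 ∧ φ + σ φ = δ * σ δ ∧ Orb σ H (gam σ δ κ φ) := by
  have nrm : ∀ {g b δ φ κ}, g ∈ H → Dat σ g b δ φ κ → ∃ g' ∈ H, ∃ φ', Dat σ g' 0 δ φ' (κ + δ * σ b) := fun {g b δ φ κ} hg d =>
    ⟨_, mul_mem (h.tau _ _ (U.el (σ := σ) 0 (-b) 0 0).h1) hg, _, by simpa using d.tau (-b) _⟩
  obtain ⟨g₀, hg₀, k₀⟩ := h.mv
  obtain ⟨b₀, δ, φ₀, κ₀, d₀⟩ := exists_dat h hg₀ k₀
  obtain ⟨g₁, hg₁, φ, d₁⟩ := nrm hg₀ d₀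
  have t₁ := d₁.tr h hg₁
  refine ⟨δ, κ₀ + δ * σ b₀, φ, d₁.two h hg₁, by simpa using t₁, fun g hg => or_iff_not_imp_left.2 fun k => ?_⟩
  obtain ⟨b, δ', φ', κ', d⟩ := exists_dat h hg k
  obtain ⟨g₂, hg₂, _, d₂⟩ := nrm hg d
  obtain ⟨rfl, e⟩ := d₁.eq h hg₁ hg₂ d₂
  refine ⟨b, φ' - φ, by rw [map_sub]; linear_combination d.tr h hg - t₁, fun f => ?_⟩
  obtain ⟨a, e'⟩ := d.1 f
  exact ⟨a, by rw [e', ← e]; simp; constructor <;> ring⟩

end CL.U5
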