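/-
S5258: the automizer of `Q₁`.
-/
import Cfsg.Agent.FUS.U5.Ext
import Cfsg.Agent.FUS.U5.Om
import Cfsg.Agent.FUS.U5.LA

set_option autoImplicit false
set_option linter.unusedSimpArgs false
set_option linter.unusedSectionVars false
set_option linter.unusedVariables false

namespace CL.U5

open CL.Fus CL.RF4 Subgroup Cfsg Cfsg.FusionSystem U Un
open scoped commutatorElement

variable {K : Type*} [Field K] [Finite K] {σ : K →+* K} [T : Un σ] {p : ℕ} [Fact p.Prime] [CharP K p]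
  {F F' : FusionSystem (⊤ : Subgroup (U σ))}

/-- coordinates on `Q₁ / Z` -/
def pv (g : U σ) : K × K × K := (g.a, g.d, g.f)

/-- a section of `pv` -/
noncomputable def sv (σ : K →+* K) [Un σ] (v : K × K × K) : U σ := el v.1 0 v.2.1 v.2.2

theorem sv_mem (v : K × K × K) : sv σ v ∈ Q1 := ⟨rfl, by simp [sv]⟩

theorem pv_sv (v : K × K × K) : pv (sv σ v) = v := rfl

theorem pv_mul {g h : U σ} (hg : g ∈ Q1) (hh : h ∈ Q1) : pv (g * h) = pv g + pv h := by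
  simp [pv, mul_a, mul_d, mul_f, hh.1, hh.2]

theorem pv_cj (s : U σ) {g : U σ} (hg : g ∈ Q1) : pv (cj s⁻¹ g) = tau σ s.b s.c (pv g) := by
  simp only [pv, tau_apply, Prod.mk.injEq]; usimp; simp only [hg.1, hg.2, map_zero]; and_intros <;> ring

theorem brk_om {g h : U σ} (hg : g ∈ Q1) (hh : h ∈ Q1) : ⁅g, h⁆.e = -om σ (pv g) (pv h) := by
  rw [(brk_Q1 hg hh).2]; simp only [om, U5.hh, pv, map_add, map_mul, T.sq]; ring

theorem sq_eq_one (h2 : (2 : K) = 0) {g : U σ} (hg : g ∈ Q1) : g * g = 1 ↔ hh σ (pv g) (pv g) = 0 := by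
  simp only [hh, pv, U.ext_iff, mul_a, mul_b, mul_c, mul_d, mul_f, mul_e, hg.1, hg.2, map_zero, one_a, one_b, one_c, one_d, one_f, one_e]
  exact ⟨fun k => by linear_combination g.e * h2 - k.2.2.2.2.2, fun k => ⟨by linear_combination g.a * h2, by simp, by simp,
    by linear_combination g.d * h2, by linear_combination g.f * h2, by linear_combination g.e * h2 - k⟩⟩

theorem autZ (α : MulAut (Q1 (σ := σ))) {z : U σ} (hz : z ∈ sZ) : autFun α z ∈ sZ := by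
  obtain ⟨f, rfl⟩ := exists_brk_Z2 (g := xa 1) one_ne_zero hz
  have h1 : (xa 1 : U σ) ∈ Q1 := ⟨rfl, rfl⟩
  have h2 : (xf f : U σ) ∈ Q1 := ⟨rfl, rfl⟩
  rw [(isHomOn_autFun α).map_commutator h1 h2]
  exact (brk_Q1 (autFun_mem α h1) (autFun_mem α h2)).1

theorem pv_aut (α : MulAut (Q1 (σ := σ))) {g : U σ} (hg : g ∈ Q1) : pv (autFun α (sv σ (pv g))) = pv (autFun α g) := by
  have h1 := sv_mem (σ := σ) (pv g)
  have h2 : g⁻¹ * sv σ (pv g) ∈ sZ := by msimp; usimp; simp [sv, pv, hg.1, hg.2]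
  have h3 := autZ α h2
  have h4 := mul_mem (inv_mem hg) h1
  rw [← mul_inv_cancel_left g (sv σ (pv g)), isHomOn_autFun α hg h4, pv_mul (autFun_mem α hg) (autFun_mem α h4)]
  generalize autFun α (g⁻¹ * sv σ (pv g)) = z at h3
  simp [pv, h3.1, h3.2.2.2.1, h3.2.2.2.2]

/-- the action on `Q₁ / Z` -/
noncomputable def toV : MulAut (Q1 (σ := σ)) →* S4F.GA K := MonoidHom.mk' (fun α => AddEquiv.toIntLinearEquiv
  { toFun := fun v => pv (autFun α (sv σ v))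
    invFun := fun v => pv (autFun α⁻¹ (sv σ v))
    left_inv := fun v => by simp only [pv_aut _ (autFun_mem _ (sv_mem v)), autFun_inv_autFun _ (sv_mem v), pv_sv]
    right_inv := fun v => by simp only [pv_aut _ (autFun_mem _ (sv_mem v)), autFun_autFun_inv _ (sv_mem v), pv_sv]
    map_add' := fun v w => by
      rw [← pv_mul (autFun_mem _ (sv_mem v)) (autFun_mem _ (sv_mem w)), ← isHomOn_autFun α (sv_mem v) (sv_mem w),
        ← pv_aut α (mul_mem (sv_mem v) (sv_mem w)), pv_mul (sv_mem v) (sv_mem w), pv_sv, pv_sv] }) fun α β =>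
  LinearEquiv.ext fun v => show pv _ = pv (autFun α (sv σ (pv (autFun β _)))) by
    rw [pv_aut _ (autFun_mem _ (sv_mem v)), autFun_mul _ _ (sv_mem v)]

theorem toV_pv (α : MulAut (Q1 (σ := σ))) {g : U σ} (hg : g ∈ Q1) : toV α (pv g) = pv (autFun α g) := pv_aut α hg

/-- the image of `Aut_F(Q₁)` -/
noncomputable def HV (F : FusionSystem (⊤ : Subgroup (U σ))) : Subgroup (S4F.GA K) := (F.autGroup Q1).map toV

theorem mem_HV {γ : S4F.GA K} : γ ∈ HV F ↔ ∃ f, Mor F Q1 f ∧ (∀ x ∈ Q1, f x ∈ Q1) ∧ ∀ x ∈ Q1, γ (pv x) = pv (f x) :=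
  ⟨by rintro ⟨α, hα, rfl⟩; exact ⟨_, mor_autFun le_top hα, fun x hx => autFun_mem α hx, fun x hx => toV_pv α hx⟩, fun ⟨f, hf, m, e⟩ =>
    let ⟨α, hα, e'⟩ := hf.exists_aut (hf.img_eq_self m)
    ⟨α, hα, LinearEquiv.ext fun v => by rw [← pv_sv (σ := σ) v, toV_pv α (sv_mem v), e _ (sv_mem v), e' (sv_mem v)]⟩⟩

theorem exists_HV {f : U σ → U σ} (hf : Mor F Q1 f) (m : ∀ x ∈ Q1, f x ∈ Q1) : ∃ γ ∈ HV F, ∀ x ∈ Q1, γ (pv x) = pv (f x) :=
  let ⟨α, hα, e'⟩ := hf.exists_aut (hf.img_eq_self m)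
  ⟨_, ⟨α, hα, rfl⟩, fun x hx => by rw [toV_pv α hx, e' hx]⟩

theorem fixW_iff {γ : S4F.GA K} {f : U σ → U σ} (m : ∀ x ∈ Q1, f x ∈ Q1) (e : ∀ x ∈ Q1, γ (pv x) = pv (f x)) :
    FixW γ ↔ ∀ x ∈ sZ2, f x ∈ sZ2 := ⟨fun k x hx => by
  obtain ⟨f', e'⟩ := k x.f
  have := e x (Z2_le_Q1 hx)
  rw [pv, hx.1, hx.2.2.2, e', pv, Prod.mk.injEq, Prod.mk.injEq] at this
  exact ⟨this.1.symm, (m x (Z2_le_Q1 hx)).1, (m x (Z2_le_Q1 hx)).2, this.2.1.symm⟩, fun k a => by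
  have h1 : (xf a : U σ) ∈ sZ2 := ⟨rfl, rfl, rfl, rfl⟩
  exact ⟨_, (e _ (Z2_le_Q1 h1)).trans (by rw [pv, (k _ h1).1, (k _ h1).2.2.2])⟩⟩

theorem om1 (hF : F.IsSaturated p) (hE : F.IsEssential p Q1) : Om1 σ p (HV F) := by
  have tc : ∀ s : U σ, toV (cjAut Q1 s⁻¹ (le_normalizer_of_normal (mem_top _))) = tau σ s.b s.c := fun s => LinearEquiv.ext fun v => by
    rw [← pv_sv (σ := σ) v, toV_pv _ (sv_mem v), autFun_cjAut _ (sv_mem v), pv_cj s (sv_mem v)]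
  refine ⟨⟨fun b c h => ⟨_, cjAut_mem_autGroup F le_top trivial _, tc (yb b c h)⟩, fun γ hγ x y x' y' k => ?_, ?_⟩,
    ⟨_, (sylIn_of_fullyNormalized (isPGroup_top p) hF hE.2.1).map toV, fun t => ⟨?_, ?_⟩⟩, fun h2 γ hγ x k => ?_⟩
  · obtain ⟨f, hf, m, e⟩ := mem_HV.1 hγ
    have b : ∀ x y, om σ (γ x) (γ y) = -(f ⁅sv σ x, sv σ y⁆).e := fun x y => by
      rw [hf.isHomOn.map_commutator (sv_mem x) (sv_mem y), brk_om (m _ (sv_mem x)) (m _ (sv_mem y)), neg_neg, ← e _ (sv_mem x),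
        ← e _ (sv_mem y), pv_sv, pv_sv]
    rw [b, b, eq_of_Z (brk_Q1 (sv_mem x) (sv_mem y)).1 (brk_Q1 (sv_mem x') (sv_mem y')).1 (by
      rw [brk_om (sv_mem x) (sv_mem y), brk_om (sv_mem x') (sv_mem y'), pv_sv, pv_sv, pv_sv, pv_sv, k])]
  · obtain ⟨f, f', hf, -, i, k⟩ := exists_move (isPGroup_top p) hF hE (extQ1 hF hE.1)
    obtain ⟨γ, hγ, e⟩ := exists_HV hf i.maps
    exact ⟨γ, hγ, mt (fixW_iff i.maps e).1 k⟩
  · rintro ⟨α, hα, rfl⟩
    obtain ⟨s, -, hs, rfl⟩ := mem_autInducedBy_iff_cjAut.1 hα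
    exact ⟨_, _, s⁻¹.h1, by simpa only [inv_inv] using tc s⁻¹⟩
  · rintro ⟨b, c, h, rfl⟩
    exact ⟨_, cjAut_mem_autInducedBy (mem_top _) _, tc (yb b c h)⟩
  · obtain ⟨f, hf, m, e⟩ := mem_HV.1 hγ
    rw [← pv_sv (σ := σ) x, ← sq_eq_one h2 (sv_mem x)] at k
    rw [← pv_sv (σ := σ) x, e _ (sv_mem x), ← sq_eq_one h2 (m _ (sv_mem x)), ← hf.map_mul (sv_mem x) (sv_mem x), k, hf.isHomOn.map_one]

theorem q1 (hF : F.IsSaturated p) (hS : Std F) (hE : F.IsEssential p Q1) : (∀ t, ts σ 1 t ∈ DF F) ∧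
    (∀ f, Mor F Q1 f → (∀ x ∈ Q1, f x ∈ Q1) → (∀ x ∈ sZ2, f x ∈ sZ2) ∨ ∃ s, ∀ x ∈ sZ2, cj s (f x) ∈ sX) ∧
    ∃ n, Mor F Q1 n ∧ (∀ x ∈ Q1, n x ∈ Q1) ∧ ∀ g ∈ Q1, pv (n g) = pv (w1 g) := by
  have h := om1 hF hE
  obtain ⟨δ, κ, φ, h1, h2, ho⟩ := orbit h
  have hn := nn_mem' h.toOm0 h1 h2 ho
  have ht : ∀ t, ts σ 1 t ∈ DF F := fun t => by
    have t0 := t.ne_zero
    have t1 := (map_ne_zero σ).2 t0
    obtain ⟨f, hf, m, e⟩ := mem_HV.1 (mul_mem (hn t⁻¹) (hn 1))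
    have ev : ∀ a d f : K, (gam σ δ κ φ * nn σ t⁻¹ * (gam σ δ κ φ)⁻¹ * (gam σ δ κ φ * nn σ 1 * (gam σ δ κ φ)⁻¹)) (gam σ δ κ φ (a, d, f)) =
        gam σ δ κ φ (a / t, t / σ t * d, σ t * f) := fun a d f => by
      rw [← LinearEquiv.mul_apply]
      simp only [mul_assoc, inv_mul_cancel, mul_one, inv_mul_cancel_left]
      simp only [LinearEquiv.mul_apply, nn_apply, Units.val_one, map_one, Units.val_inv_eq_inv_val, map_inv₀]
      congr 1; ext <;> simp only <;> field_simp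
    obtain ⟨k, hk, e1⟩ := extQ1 hF hE.1 f hf m ((fixW_iff m e).1 fun a => ⟨σ t * a, by simpa using ev 0 0 a⟩)
    obtain ⟨u, x, hd, hu⟩ := hS.dd_mem hk
    have e2 : ∀ a d : K, gam σ δ κ φ (a / t, t / σ t * d, 0) = tau σ u⁻¹.b u⁻¹.c (pv (dd x (sv σ (gam σ δ κ φ (a, d, 0))))) :=
      fun a d => by
        rw [← pv_cj _ (dd_Q1 x (sv_mem _)), inv_inv, ← hu, e1 (sv_mem _), ← e _ (sv_mem _), pv_sv, ev, mul_zero]
    have e3 : ∀ a, (x.l : K) * x.ρ a = a / t := fun a => (congrArg Prod.fst (e2 a 0)).symm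
    have e4 := congrArg (fun v => v.2.1) (e2 0 1)
    have e5 := e3 1
    simp only [pv, sv, gam_apply, tau_apply, dd_a, dd_d, el_a, el_d, map_zero, map_one, zero_div, mul_zero, add_zero, zero_mul,
      mul_one] at e4 e5
    rwa [dd_eq_of_ab (x := x) (y := ts σ 1 t) (fun a => by rw [e3]; simp [div_eq_inv_mul]) (by
      rw [e5] at e4; simp; field_simp at e4 ⊢; exact e4.symm)] at hd
  obtain ⟨rfl, rfl⟩ : δ = 0 ∧ κ = 0 := by
    obtain ⟨g₀, hg₀, k₀⟩ := h.mv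
    obtain ⟨b, c, k1, k2⟩ := (ho g₀ hg₀).resolve_left k₀
    choose A hA using k2
    have sA : Function.Surjective A := Finite.injective_iff_surjective.1 fun a a' e => by
      simpa using g₀.injective (show g₀ (0, 0, a) = g₀ (0, 0, a') by rw [hA, hA, e])
    have t0 := θ_ne_zero σ
    have t1 := (map_ne_zero σ).2 t0
    obtain ⟨γ, hγ, e⟩ := exists_HV (Mor.mono (ht (Units.mk0 _ t0)) le_top) fun x => dd_Q1 _
    have e1 : ∀ a d f : K, γ (a, d, f) = (a / θ σ, θ σ / σ (θ σ) * d, σ (θ σ) * f) := fun a d f => by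
      refine (e _ (sv_mem (a, d, f))).trans ?_
      simp [pv, sv, T.sq]; refine ⟨?_, ?_, ?_⟩ <;> field_simp <;> simp
    have e2 : ∀ f, (γ * (tau σ b c)⁻¹ * g₀) (0, 0, f) = γ (gam σ δ κ φ (A f, 0, 0)) := fun f => by
      rw [LinearEquiv.mul_apply, hA, ← LinearEquiv.mul_apply, inv_mul_cancel_right]
    rcases ho _ (mul_mem (mul_mem hγ (inv_mem (h.tau b c k1))) hg₀) with k | ⟨b', c', -, k⟩
    · obtain ⟨f, hf⟩ := sA 1
      obtain ⟨f', k⟩ := k f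
      rw [e2, hf, gam_apply, e1] at k
      simpa [t0] using congrArg Prod.fst k
    have k3 : ∀ a : K, δ * σ a * θ σ = δ * σ a + a / θ σ * b' * σ (θ σ) ∧ σ (θ σ) * (φ * a + κ * σ a) =
        φ * (a / θ σ) + κ * (σ a / σ (θ σ)) + a / θ σ * c' - (δ * (σ a / σ (θ σ))) * σ b' := fun a => by
      obtain ⟨f, rfl⟩ := sA a
      obtain ⟨a', k⟩ := k f
      simp only [e2, gam_apply, e1, tau_apply, Prod.mk.injEq, map_zero, zero_add, mul_zero, sub_zero] at k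
      obtain ⟨rfl, k4, k5⟩ := k
      rw [map_div₀] at k4 k5
      exact ⟨by field_simp at k4 ⊢; linear_combination k4, k5⟩
    have k4 := (lin_ind (σ := σ) (x := b' * σ (θ σ) / θ σ) (y := δ * (θ σ - 1)) fun a => by linear_combination -(k3 a).1).2
    obtain rfl : δ = 0 := (mul_eq_zero.1 k4).resolve_right (sub_ne_zero.2 (θ_ne_one σ))
    have k5 := (lin_ind (σ := σ) (x := σ (θ σ) * φ - φ / θ σ - c' / θ σ) (y := κ * (1 / σ (θ σ) - σ (θ σ))) fun a => by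
      linear_combination (k3 a).2).2
    refine ⟨rfl, (mul_eq_zero.1 k5).resolve_right fun k6 => θ_ne σ ?_⟩
    field_simp at k6
    rcases sq_eq_one_iff.1 (show σ (θ σ) ^ 2 = 1 by linear_combination -k6) with k7 | k7 <;>
      rw [← T.sq (θ σ), k7] <;> simp
  have e0 : gam σ 0 0 φ = tau σ 0 φ := ext3 fun a d f => by simp [mul_comm]
  have h3 : φ + σ φ + 0 * σ 0 = 0 := by simpa using h2
  refine ⟨ht, fun f hf m => ?_, ?_⟩
  · obtain ⟨γ, hγ, e⟩ := exists_HV hf m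
    refine (ho γ hγ).imp (fixW_iff m e).1 fun ⟨b, c, k1, k2⟩ => ?_
    have k3 : φ + c + σ (φ + c) + b * σ b = 0 := by rw [map_add]; linear_combination k1 + h3
    refine ⟨yb b _ k3, fun x hx => ?_⟩
    obtain ⟨a, k4⟩ := k2 x.f
    have q := (isoOn_cj (P := Q1) (yb b _ k3)).maps _ (m x (Z2_le_Q1 hx))
    have k5 := pv_cj (yb b _ k3) q
    rw [cj_inv_cj, ← e x (Z2_le_Q1 hx), pv, hx.1, hx.2.2.2, k4, e0, ← LinearEquiv.mul_apply, tau_mul] at k5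
    simp only [zero_add, zero_mul, sub_zero, yb_b, yb_c, EmbeddingLike.apply_eq_iff_eq, pv, Prod.mk.injEq] at k5
    exact ⟨q.1, q.2, k5.2.1.symm, k5.2.2.symm⟩
  · have k := mul_mem (mul_mem (inv_mem (h.tau 0 φ h3)) (hn 1)) (h.tau 0 φ h3)
    simp only [e0, mul_assoc, inv_mul_cancel, mul_one, inv_mul_cancel_left] at k
    obtain ⟨n, hn, m, e⟩ := mem_HV.1 k
    exact ⟨n, hn, m, fun g hg => by rw [← e g hg]; simp [pv]⟩

end CL.U5
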