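/-
S5258: the automizer of `Q₂`.
-/
import Cfsg.Agent.FUS.U5.Ext

set_option autoImplicit false
set_option linter.unusedSimpArgs false
set_option linter.unusedSectionVars false
set_option linter.unusedVariables false

namespace CL.U5

open CL.Fus CL.RF4 Subgroup Cfsg Cfsg.FusionSystem U Un
open scoped commutatorElement

variable {K : Type*} [Field K] [Finite K] {σ : K →+* K} [T : Un σ] {p : ℕ} [Fact p.Prime] [CharP K p]
  {F F' : FusionSystem (⊤ : Subgroup (U σ))}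

namespace Q2A

variable {x y : U σ} {f f' : U σ → U σ}

/-- every commutator `[y, u]` is a commutator `[x, u']` -/
def R (x y : U σ) : Prop := ∀ u ∈ Q2 (σ := σ), ∃ u' ∈ Q2 (σ := σ), ⁅y, u⁆ = ⁅x, u'⁆

theorem R_of_smul (hx : x ∈ Q2) (hy : y ∈ Q2) (t : K) (e1 : y.b = t * x.b) (e2 : y.d = t * x.d) : R x y := fun u hu => by
  have k : (el 0 (σ t * u.b) (σ t * u.d) 0 : U σ) ∈ Q2 := rfl
  obtain ⟨h1, h2, h3⟩ := brk_Q2 hy hu
  obtain ⟨h4, h5, h6⟩ := brk_Q2 hx k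
  refine ⟨_, k, U.ext (h1.1.trans h4.1.symm) (h1.2.1.trans h4.2.1.symm) ?_ (h1.2.2.trans h4.2.2.symm) ?_ ?_⟩ <;>
    simp only [brk_c, h2, h3, h5, h6, e1, e2, el_b, el_d, map_mul, T.sq] <;> ring

theorem det_of_R (hx : x ∈ Q2) (hy : y ∈ Q2) (h : R x y) : x.b * y.d = x.d * y.b := by
  have k : (el 0 (θ σ * y.b) (θ σ * y.d) 0 : U σ) ∈ Q2 := rfl
  obtain ⟨u, hu, e⟩ := h _ k
  obtain ⟨-, h2, h3⟩ := brk_Q2 hy k
  obtain ⟨-, h5, h6⟩ := brk_Q2 hx hu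
  have h1 := congrArg U.c e
  rw [e, h5] at h2
  rw [e, h6] at h3
  have h4 := congrArg σ h2
  simp only [brk_c, el_b, el_d, map_mul, map_sub, T.sq] at h1 h2 h3 h4
  refine sub_eq_zero.1 (norm_eq_zero (σ := σ) ((mul_eq_zero.1 (?_ : _ * (θ σ - σ (θ σ)) = 0)).resolve_right (θ_sub σ)))
  simp only [map_sub, map_mul]
  linear_combination (x.d * σ x.d) * h1 + (σ x.d * x.b) * h2 - (x.d * σ x.b) * h4 - (x.b * σ x.b) * h3

theorem R.map (h : IsoOn Q2 Q2 f f') (hx : x ∈ Q2) (hy : y ∈ Q2) (k : R x y) : R (f x) (f y) := fun u hu => by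
  obtain ⟨u', hu', e⟩ := k _ (h.maps' u hu)
  exact ⟨_, h.maps _ hu', by
    rw [← h.hom.map_commutator hx hu', ← e, h.hom.map_commutator hy (h.maps' u hu), h.right u hu]⟩

theorem iff_V (h : IsoOn Q2 Q2 f f') (hx : x ∈ Q2) : f x ∈ sV ↔ x ∈ sV :=
  iff_of_iv h ((au_pair h).iv_Zn.congr (Y := sV (σ := σ)) (fun y hy => ⟨fun k => (⟨hy, by
    simpa [comm_iff.1 (k.2 (el 0 0 1 0) rfl)] using (brk_Q2 hy (show (el 0 0 1 0 : U σ) ∈ Q2 from rfl)).2.1.symm, by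
    simpa [comm_iff.1 (k.2 (el 0 1 0 0) rfl), eq_comm] using (brk_Q2 hy (show (el 0 1 0 0 : U σ) ∈ Q2 from rfl)).2.1⟩ : y ∈ sV),
    fun k => ⟨hy, fun x hx => (comm_V k hx).symm⟩⟩) (au_pair h)) hx

theorem cj_xa (a : K) (g : U σ) : (cj (xa a) g).b = g.b ∧ (cj (xa a) g).d = g.d + a * g.b := by
  usimp; simp

end Q2A
open Q2A

/-- Automorphisms of `Q₂` permute the `K`-lines of `Q₂ / V = K²`. For `x, y ∈ Q₂`, `x ∉ V`: `x.b y.d = x.d y.b` iff every commutator `[y, u]`, `u ∈ Q₂`, is a commutator `[x, u']`, `u' ∈ Q₂`.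
(Commutators in `Q₂` lie in `V` with `c, f, e` given by `brk_c`, `brk_Q2`. `⇒`: `(y.b, y.d) = t (x.b, x.d)`, take `u' = el 0 (σ t u.b) (σ t u.d) 0`. `⇐`: all `m = [x, u']` satisfy
`x.d σ x.d m.c - σ x.d x.b m.f + x.d σ x.b σ m.f + x.b σ x.b m.e = 0` (check the signs with `ring`); for `m = [y, u]` this reads `D σ D' = σ D D'` with `D = x.b y.d - x.d y.b`, `D' = x.b u.d - x.d u.b` arbitrary; `eq_zero_of_real`.)
`V = Z(Q₂)` is invariant (`iv_Zn`, `au_pair`), which settles `x ∈ V`. -/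
theorem det_map {f f' : U σ → U σ} (h : IsoOn Q2 Q2 f f') {x y : U σ} (hx : x ∈ Q2) (hy : y ∈ Q2) (e : x.b * y.d = x.d * y.b) :
    (f x).b * (f y).d = (f x).d * (f y).b := by
  by_cases hb : x.b = 0
  · by_cases hd : x.d = 0
    · have := (iff_V h hx).2 ⟨hx, hb, hd⟩
      rw [this.2.1, this.2.2, zero_mul, zero_mul]
    · exact det_of_R (h.maps x hx) (h.maps y hy) ((R_of_smul hx hy (y.d / x.d) (by field_simp; linear_combination -e)
        (by field_simp)).map h hx hy)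
  · exact det_of_R (h.maps x hx) (h.maps y hy) ((R_of_smul hx hy (y.b / x.b) (by field_simp)
      (by field_simp; linear_combination e)).map h hx hy)

/-- `x₀ = f (el 0 0 1 0) ∉ V`. If `x₀.b = 0` then `f Φ ≤ Φ`; else `a = -x₀.d / x₀.b`, `(cj (xa a) g).d = g.d + a g.b`. -/
theorem line_cases {f f' : U σ → U σ} (h : IsoOn Q2 Q2 f f') :
    (∀ x ∈ sPh, f x ∈ sPh) ∨ ∃ a, ∀ x ∈ sPh, cj (xa a) (f x) ∈ sL := by
  have k : (el 0 0 1 0 : U σ) ∈ Q2 := rfl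
  have e := fun x (hx : x ∈ sPh) => det_map h k hx.1 (by simp [hx.2])
  by_cases hb : (f (el 0 0 1 0)).b = 0
  · exact Or.inl fun x hx => ⟨h.maps x hx.1, (mul_eq_zero.1 ((e x hx).symm.trans (by rw [hb, zero_mul]))).resolve_left
      fun hd => one_ne_zero ((iff_V h k).1 ⟨h.maps _ k, hb, hd⟩).2.2⟩
  · exact Or.inr ⟨-(f (el 0 0 1 0)).d / (f (el 0 0 1 0)).b, fun x hx => ⟨(isoOn_cj (P := Q2) _).maps _ (h.maps x hx.1), by
      rw [(cj_xa _ _).2]; field_simp; linear_combination e x hx⟩⟩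

/-- (pattern: `RF4.swapQ'`, `RF4.exists_ns`). `exists_move` (`extQ2`), `line_cases`: `ψ ∈ Aut_F(Q₂)` with `ψ Φ = L` (onto by finiteness, `V` invariant). `t c = ψ ∘ cj (xa c) ∘ ψ⁻¹` is trivial on `L / V` and on `Q₂ / L`:
`(t g).d = g.d`, `(t g).b = g.b + λ_c g.d` where `λ_c ∈ K` by `det_map` applied to the line `Φ` (`λ_c = (t (el 0 0 1 0)).b`; `(t g).b` is additive in `g`). `c ↦ λ_c` is injective
(`ψ⁻¹ (el 0 0 1 0) ∉ Φ`, and `cj (xa c)`, `cj (xa c')` differ on it modulo `V`), hence onto. `n = cj (xa s) ∘ t ∘ cj (xa s)` with `λ = -1 / s`. -/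
theorem exists_ns (hF : F.IsSaturated p) (hE : F.IsEssential p Q2) (s : Kˣ) :
    ∃ n, Mor F Q2 n ∧ (∀ x ∈ Q2, n x ∈ Q2) ∧ ∀ g ∈ Q2, (n g).b = -g.d / s ∧ (n g).d = s * g.b := by
  obtain ⟨f, f', hf, hf', h, k⟩ := exists_move (isPGroup_top p) hF hE (X := sPh) fun f => extQ2 hF hE.1 f
  obtain ⟨a, k1⟩ := (line_cases h).resolve_left k
  obtain ⟨ψ, ψ', m, m', h, k1⟩ : ∃ ψ ψ', Mor F Q2 ψ ∧ Mor F Q2 ψ' ∧ IsoOn Q2 Q2 ψ ψ' ∧ ∀ x ∈ sPh, ψ x ∈ sL :=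
    ⟨_, _, hf.cj_comp trivial, hf'.comp (mor_cj' F Q2 _) (isoOn_cj (xa a)).maps', h.trans (isoOn_cj (xa a)), k1⟩
  have q0 : (el 0 0 1 0 : U σ) ∈ sPh := ⟨rfl, rfl⟩
  have k2 : ∀ l ∈ sL, ψ' l ∈ sPh := fun l hl => ⟨h.maps' l hl.1, by
    have := det_map h.symm (h.maps _ q0.1) hl.1 (by rw [hl.2, (k1 _ q0).2, mul_zero, zero_mul])
    simpa [h.left _ q0.1, eq_comm] using this⟩
  have n0 : (ψ' (el 0 0 1 0)).b ≠ 0 := fun e => one_ne_zero (h.right _ q0.1 ▸ k1 _ ⟨h.maps' _ q0.1, e⟩ : (el 0 0 1 0 : U σ) ∈ sL).2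
  have q1 : (el 0 (-1 / s) 0 0 : U σ) ∈ sL := ⟨rfl, rfl⟩
  obtain ⟨c, hc⟩ : ∃ c, c * (ψ' (el 0 0 1 0)).b = (ψ' (el 0 (-1 / s) 0 0)).d := ⟨_, div_mul_cancel₀ _ n0⟩
  have ht := (h.symm.trans (isoOn_cj (xa c))).trans h
  have mt : Mor F Q2 (ψ ∘ cj (xa c) ∘ ψ') := m.comp (m'.cj_comp trivial) (h.symm.trans (isoOn_cj (xa c))).maps
  have e : ∀ g ∈ Q2, (ψ ∘ cj (xa c) ∘ ψ') g = ψ ⁅xa c, ψ' g⁆ * g := fun g hg => by
    conv_rhs => rw [← h.right g hg, ← h.map_mul (brk_top _ _).1 (h.maps' g hg), h.left _ (h.maps' g hg)]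
    simp [cj, commutatorElement_def]
  generalize ψ ∘ cj (xa c) ∘ ψ' = t at ht mt e
  have e1 : ∀ g ∈ Q2, (t g).d = g.d := fun g hg => by
    rw [e g hg, mul_d, (k1 _ (brk_top _ _)).1, (k1 _ (brk_top _ _)).2]; simp
  have e2 : (t (el 0 0 1 0)).b = -1 / s := by
    have v := ((iff_V h ((Q2 (σ := σ)).mul_mem (Q2.inv_mem (brk_top (xa c) (ψ' (el 0 0 1 0))).1) (k2 _ q1).1)).2
      ⟨by simp [mul_a, inv_a, brk_a, (k2 _ q1).1], by simp [mul_b, inv_b, brk_b, (k2 _ q1).2],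
        by simp [mul_d, inv_d, inv_a, brk_a, brk_d, hc]⟩).2.1
    rw [h.map_mul (Q2.inv_mem (brk_top _ _).1) (k2 _ q1).1, h.map_inv (brk_top _ _).1, h.right _ q1.1, mul_b, inv_b, el_b] at v
    rw [e _ q0.1, mul_b, el_b]
    linear_combination -v
  have e3 : ∀ g ∈ Q2, (t g).b = g.b - g.d / s := fun g hg => by
    have l : (el 0 g.b 0 0 : U σ) ∈ sL := ⟨rfl, rfl⟩
    have y : (el 0 g.b 0 0)⁻¹ * g ∈ sPh := ⟨by simp [mul_a, inv_a, mem_Q2.1 hg], by simp [mul_b, inv_b]⟩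
    have := det_map ht q0.1 y.1 (by simp [y.2])
    rw [e1 _ q0.1, e1 _ y.1, e2] at this
    conv_lhs => rw [← mul_inv_cancel_left (el 0 g.b 0 0) g, ht.map_mul l.1 y.1, mul_b, e _ l.1, mul_b,
      ((iff_V h (brk_top _ _).1).2 (Z2_le_V (brk_Ph _ (k2 _ l)))).2.1]
    simp only [mul_d, inv_d, inv_a, el_a, el_b, el_d] at this ⊢
    linear_combination -this
  have i := isoOn_cj (P := Q2 (σ := σ)) (xa s)
  refine ⟨cj (xa s) ∘ t ∘ cj (xa s), (mt.comp (mor_cj' F Q2 _) i.maps).cj_comp trivial,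
    fun x hx => i.maps _ (ht.maps _ (i.maps x hx)), fun g hg => ?_⟩
  simp only [Function.comp, cj_xa, e1 _ (i.maps g hg), e3 _ (i.maps g hg)]
  constructor <;> field_simp <;> ring

theorem cj_bd {u g : U σ} (hu : u ∈ Q2) (hg : g ∈ Q2) : (cj u g).b = g.b ∧ (cj u g).d = g.d := by
  msimp at *; usimp; simp only [hu, hg]; constructor <;> ring

theorem tsa_mem (hF : F.IsSaturated p) (hS : Std F) (hE : F.IsEssential p Q2) (s : Kˣ) : ts σ s s⁻¹ ∈ DF F := by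
  obtain ⟨n, m, q, e⟩ := exists_ns hF hE s
  obtain ⟨n', m', q', e'⟩ := exists_ns hF hE (-1)
  have k : ∀ g ∈ Q2, (n (n' g)).b = g.b / s ∧ (n (n' g)).d = s * g.d := fun g hg => by
    rw [(e _ (q' g hg)).1, (e _ (q' g hg)).2, (e' g hg).1, (e' g hg).2]; simp
  obtain ⟨u, hu, x, hd, k'⟩ := stabQ2 hF hS hE.1 (m.comp m' q') (fun x hx => q _ (q' x hx))
    (fun x hx => ⟨q _ (q' x hx.1), by rw [Function.comp, (k x hx.1).1, hx.2, zero_div]⟩)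
    fun x hx => ⟨q _ (q' x hx.1), by rw [Function.comp, (k x hx.1).2, hx.2, mul_zero]⟩
  rwa [dd_eq_of_Q2 (σ := σ) (x := x) (y := ts σ s s⁻¹) fun g hg => by
    have k1 := cj_bd hu (dd_Q2 x hg)
    rw [← k' g hg, Function.comp, (k g hg).1, (k g hg).2] at k1
    have := (map_ne_zero σ).2 s.ne_zero
    rw [← k1.1, ← k1.2]
    simp only [dd_b, dd_d, ts_l, ts_m, ts_ρ, Units.val_mul, Units.val_inv_eq_inv_val, Units.val_pow_eq_pow_val, σu_val, map_inv,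
      map_inv₀, RingAut.one_apply]
    constructor <;> field_simp] at hd

end CL.U5
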