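/-
S5258: the two reflections lie in `F`; comparison of fusion systems.
-/
import Cfsg.Agent.FUS.U5.Q1
import Cfsg.Agent.FUS.U5.Q2
import Cfsg.Agent.FUS.U5.Ess

set_option autoImplicit false
set_option linter.unusedSimpArgs false
set_option linter.unusedSectionVars false
set_option linter.unusedVariables false

namespace CL.U5

open CL.Fus CL.RF4 Subgroup Cfsg Cfsg.FusionSystem U Un
open scoped commutatorElement

variable {K : Type*} [Field K] [Finite K] {σ : K →+* K} [T : Un σ] {p : ℕ} [Fact p.Prime] [CharP K p]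
  {F F' : FusionSystem (⊤ : Subgroup (U σ))}

namespace BigA

variable {G : Type*} [Group G] {P Z : Subgroup G} {ε : G → G}

theorem fix_brk (c : ∀ z ∈ Z, ∀ g ∈ P, g * z = z * g) (hZ : Z ≤ P) (h1 : IsHomOn P ε) (h2 : ∀ g ∈ P, g⁻¹ * ε g ∈ Z) {x y : G}
    (hx : x ∈ P) (hy : y ∈ P) : ε ⁅x, y⁆ = ⁅x, y⁆ := by
  rw [h1.map_commutator hx hy, ← mul_inv_cancel_left x (ε x), ← mul_inv_cancel_left y (ε y)]
  have a := h2 x hx
  have b := h2 y hy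
  generalize x⁻¹ * ε x = u at a
  generalize y⁻¹ * ε y = v at b
  calc ⁅x * u, y * v⁆ = x * (u * (y * v)) * u⁻¹ * ((x⁻¹ * v⁻¹) * y⁻¹) := by simp only [commutatorElement_def]; group
    _ = ⁅x, y⁆ := by
      rw [← c u a _ (mul_mem hy (hZ b)), c _ (inv_mem b) _ (inv_mem hx), commutatorElement_def]; group

theorem zeta (c : ∀ z ∈ Z, ∀ g ∈ P, g * z = z * g) (h1 : IsHomOn P ε) (h2 : ∀ g ∈ P, g⁻¹ * ε g ∈ Z) (h : MulAut G)
    (hP : ∀ g ∈ P, h g ∈ P) (hZ : ∀ g ∈ Z, h g ∈ Z) (h3 : ∀ g ∈ P, ε (h g) = h (ε g)) {g g' : G} (hg : g ∈ P) (hg' : g' ∈ P)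
    (hv : ε ((h g' * g'⁻¹)⁻¹ * g) = (h g' * g'⁻¹)⁻¹ * g) : ∃ z ∈ Z, g⁻¹ * ε g = h z * z⁻¹ := by
  have m := mul_mem (hP g' hg') (inv_mem hg')
  have m' := mul_mem (inv_mem m) hg
  refine ⟨_, h2 g' hg', ?_⟩
  have e : ε g = h (ε g') * (ε g')⁻¹ * ((h g' * g'⁻¹)⁻¹ * g) := by
    rw [← hv, ← h3 g' hg', ← h1.map_inv hg', ← h1 (hP g' hg') (inv_mem hg'), ← h1 m m', mul_inv_cancel_left]
  have a := h2 g' hg'
  rw [e, ← mul_inv_cancel_left g' (ε g'), inv_mul_cancel_left]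
  generalize g'⁻¹ * ε g' = u at a
  calc g⁻¹ * (h (g' * u) * (g' * u)⁻¹ * ((h g' * g'⁻¹)⁻¹ * g)) = (g⁻¹ * h g') * (h u * u⁻¹ * ((h g')⁻¹ * g)) := by
        rw [map_mul]; group
    _ = h u * u⁻¹ := by
      rw [← c _ (mul_mem (hZ u a) (inv_mem a)) _ (mul_mem (inv_mem (hP g' hg')) hg)]; group

theorem pv_eq {g h : U σ} : pv g = pv h ↔ g.a = h.a ∧ g.d = h.d ∧ g.f = h.f := by simp [pv]

theorem div_Q1 {g h : U σ} (hg : g ∈ Q1) (hh : h ∈ Q1) (e : pv g = pv h) : g⁻¹ * h ∈ sZ := by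
  rw [pv_eq] at e; msimp at *; usimp; simp [hg, hh, e]

theorem div_Q2 {g h : U σ} (hg : g ∈ Q2) (hh : h ∈ Q2) (e : g.b = h.b) (e' : g.d = h.d) : g⁻¹ * h ∈ sV := by
  msimp at *; usimp; simp [hg, hh, e, e']

theorem pv_cj' {u g : U σ} (hu : u ∈ Q1) (hg : g ∈ Q1) : pv (cj u g) = pv g := by
  rw [pv_eq]; msimp at *; usimp; simp [hg, hu]

theorem s1_s1 (x : Dg K) : s1 σ (s1 σ x) = x :=
  Dg.ext (Units.ext (by simp [T.sq])) (Units.ext (by simp [T.sq])) rfl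

omit T in
theorem s2_s2 (x : Dg K) : s2 (s2 x) = x := Dg.ext (inv_inv _) (inv_mul_cancel_left _ _) rfl

end BigA

open BigA

/-- `ζ g = g⁻¹ ε g ∈ Z`, `χ g = (ζ g).e` is additive on `Q₁`, vanishes on `Z` (commutators, `exists_brk_Z2 (xa 1)`; `ε [x, y] = [x ζ, y ζ'] = [x, y]`), `χ (h g) = χ g` for `h = dd (ts σ 1 t)` (weight `1` on `e`).
The weights `t⁻¹, t / σ t, σ t` of `h` on `a, d, f` are `≠ 1`, so every `g ∈ Q₁` is `h g' g'⁻¹ z`. -/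
theorem rigid1 {ε : U σ → U σ} (h1 : IsHomOn Q1 ε) (h2 : ∀ g ∈ Q1, ε g ∈ Q1 ∧ pv (ε g) = pv g) {t : Kˣ} (ht : σ t ≠ t)
    (h3 : ∀ g ∈ Q1, ε (dd (ts σ 1 t) g) = dd (ts σ 1 t) (ε g)) : ∀ g ∈ Q1, ε g = g := by
  intro g hg
  have c : ∀ z ∈ sZ, ∀ g ∈ Q1 (σ := σ), g * z = z * g := fun z hz g _ => comm_Z hz g
  have h4 : ∀ g ∈ Q1, g⁻¹ * ε g ∈ sZ := fun g hg => div_Q1 hg (h2 g hg).1 (h2 g hg).2.symm
  have fz : ∀ z ∈ sZ, ε z = z := fun z hz => by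
    obtain ⟨f, rfl⟩ := exists_brk_Z2 (g := xa 1) one_ne_zero hz
    exact fix_brk c (Z_le_Z2.trans Z2_le_Q1) h1 h4 ⟨rfl, rfl⟩ ⟨rfl, rfl⟩
  have t0 := t.ne_zero
  have t0' : σ t ≠ 0 := (map_ne_zero σ).2 t0
  have t1 : (t : K) ≠ 1 := fun e => ht (by rw [e, map_one])
  have t2 : σ t ≠ 1 := fun e => t1 (by rw [← T.sq t, e, map_one])
  have m : (el (g.a * t / (1 - t)) 0 (g.d * σ t / (t - σ t)) (g.f / (σ t - 1)) : U σ) ∈ Q1 := ⟨rfl, by simp⟩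
  obtain ⟨z, hz, e⟩ := zeta c h1 h4 (dd (ts σ 1 t)) (fun _ => dd_Q1 _) (fun g hg => by msimp at *; simp [hg]) h3 hg m
    (fz _ (div_Q1 (mul_mem (dd_Q1 _ m) (inv_mem m)) hg (by
      have := sub_ne_zero.2 t1.symm
      have := sub_ne_zero.2 ht.symm
      have := sub_ne_zero.2 t2
      simp [pv_eq, mul_a, mul_d, mul_f, inv_a, inv_b, inv_c, inv_d, inv_f, T.sq]
      and_intros <;> field_simp <;> ring)))
  have k : dd (ts σ 1 t) z = z := by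
    msimp at hz
    ext <;> simp [hz, T.sq]
    field_simp
  rw [k, mul_inv_cancel, inv_mul_eq_one] at e
  exact e.symm

/-- `ζ g = g⁻¹ ε g ∈ V` is a homomorphism `Q₂ → V`, trivial on `V` (products of commutators: `brk_c`, `brk_Q2`, `exists_sub`), `ζ (h g) = h (ζ g)` for `h = dd (ts σ s t)`: weights `m = s t² / σ(s t)` on `b`, `s² t / σ(s t)` on `d`, `t σ t` on `c`, `s σ t` on `f`, `s σ s` on `e`.
If `h` has weights `≠ 1` on `b` and `d`, every `g ∈ Q₂` is `h g' g'⁻¹ v`; so a coordinate of `ζ` with weight `1` vanishes. For `c, e`: `ts s s⁻¹` with `s ≠ 1 = s σ s` (`exists_norm_one`; weights `s⁻¹, s`). For `f`: `ts s (σ s)⁻¹` with `s³ ≠ σ s²` (`exists_cube`; weights `s² / σ s³`, `s³ / σ s²`). -/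
theorem rigid2 {ε : U σ → U σ} (h1 : IsHomOn Q2 ε) (h2 : ∀ g ∈ Q2, ε g ∈ Q2 ∧ (ε g).b = g.b ∧ (ε g).d = g.d)
    (h3 : ∀ s t, ∀ g ∈ Q2, ε (dd (ts σ s t) g) = dd (ts σ s t) (ε g)) : ∀ g ∈ Q2, ε g = g := by
  intro g hg
  have c : ∀ z ∈ sV, ∀ g ∈ Q2 (σ := σ), g * z = z * g := fun z hz g hg => comm_V hz hg
  have h4 : ∀ g ∈ Q2, g⁻¹ * ε g ∈ sV := fun g hg => div_Q2 hg (h2 g hg).1 (h2 g hg).2.1.symm (h2 g hg).2.2.symm
  have fb := fun x y hx hy => fix_brk c V_le_Q2 h1 h4 (x := x) (y := y) hx hy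
  have fz : ∀ z ∈ sV, ε z = z := fun z hz => by
    obtain ⟨x, hx⟩ := exists_sub (σ := σ) one_ne_zero (tr_c hz.2.1)
    obtain ⟨y, hy⟩ := exists_sub (σ := σ) one_ne_zero (tr_e hz)
    obtain ⟨a1, a2, a3⟩ := brk_Q2 (g := (el 0 1 0 0 : U σ)) (h := el 0 x 0 0) rfl rfl
    obtain ⟨b1, b2, b3⟩ := brk_Q2 (g := (el 0 1 0 0 : U σ)) (h := el 0 0 z.f 0) rfl rfl
    obtain ⟨c1, c2, c3⟩ := brk_Q2 (g := (el 0 0 1 0 : U σ)) (h := el 0 0 y 0) rfl rfl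
    have e : z = ⁅(el 0 1 0 0 : U σ), el 0 x 0 0⁆ * ⁅(el 0 1 0 0 : U σ), el 0 0 z.f 0⁆ * ⁅(el 0 0 1 0 : U σ), el 0 0 y 0⁆ := by
      ext <;> simp [mul_a, mul_b, mul_c, mul_d, mul_f, mul_e, brk_a, brk_b, brk_c, brk_d, a2, a3, b2, b3, c2, c3, hz.1, hz.2.1, hz.2.2,
        ← hx, ← hy]
    rw [e, h1 (mul_mem a1.1 b1.1) c1.1, h1 a1.1 b1.1, fb _ _ rfl rfl, fb _ _ rfl rfl, fb _ _ rfl rfl]
  have key : ∀ s t, ((ts σ s t).m : K) ≠ 1 → ((ts σ s t).l * (ts σ s t).m : K) ≠ 1 →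
      ∃ z ∈ sV, g⁻¹ * ε g = dd (ts σ s t) z * z⁻¹ := fun s t n1 n2 => by
    have e : (ts σ s t).ρ = 1 := rfl
    have h5 := h3 s t
    generalize ts σ s t = x at *
    have m : (el 0 (g.b / (x.m - 1)) (g.d / (x.l * x.m - 1)) 0 : U σ) ∈ Q2 := rfl
    have := sub_ne_zero.2 n1
    have := sub_ne_zero.2 n2
    refine zeta c h1 h4 (dd x) (fun _ => dd_Q2 _) (fun g hg => by msimp at *; simp [hg]) h5 hg m
      (fz _ (div_Q2 (mul_mem (dd_Q2 _ m) (inv_mem m)) hg ?_ ?_)) <;>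
      simp [mul_b, mul_d, inv_b, inv_d, e] <;> field_simp <;> ring
  obtain ⟨s, s1, hs⟩ := exists_norm_one (σ := σ)
  have s0 : s ≠ 0 := left_ne_zero_of_mul_eq_one hs
  have s0' : σ s ≠ 0 := (map_ne_zero σ).2 s0
  obtain ⟨z, hz, e⟩ := key (Units.mk0 s s0) (Units.mk0 s s0)⁻¹ (by simp; field_simp; exact s1.symm) (by simp; field_simp; exact s1)
  obtain ⟨r, r0, hr⟩ := exists_cube (σ := σ)
  have r0' : σ r ≠ 0 := (map_ne_zero σ).2 r0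
  have hr' : r ^ 2 ≠ σ r ^ 3 := fun k => hr (by simpa [T.sq] using (congrArg σ k).symm)
  obtain ⟨z', hz', e'⟩ := key (Units.mk0 r r0) (σu σ (Units.mk0 r r0))⁻¹ (by simp [T.sq]; field_simp; exact hr')
    (by simp [T.sq]; field_simp; exact hr)
  have m := h4 g hg
  have k1 := tr_c hz.2.1
  have k2 := tr_e hz
  have k3 : σ s = s⁻¹ := eq_inv_of_mul_eq_one_right hs
  refine (inv_mul_eq_one.1 (U.ext m.1 m.2.1 ?_ m.2.2 ?_ ?_)).symm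
  · rw [e]
    simp [mul_c, inv_c, hz.2.1, k3]
    field_simp
    linear_combination k1
  · rw [e']
    simp [mul_f, inv_f, inv_b, hz'.1, hz'.2.1, hz'.2.2, T.sq]
    field_simp
    ring
  · rw [e]
    simp [mul_e, inv_e, inv_a, hz.1, hz.2.2, k3]
    field_simp
    linear_combination k2

theorem ts_mem (hF : F.IsSaturated p) (hS : Std F) (h1 : F.IsEssential p Q1) (h2 : F.IsEssential p Q2) (s t : Kˣ) : ts σ s t ∈ DF F := by
  simpa [ts_mul] using mul_mem (tsa_mem hF hS h2 s) ((q1 hF hS h1).1 (s * t))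

/-- (pattern: `RF4.w1_mem`). `n` from `q1`; `exists_norm dd (DF F) (not_dvd_DF hF)` with `stabQ1` applied to `n ∘ dd x ∘ n⁻¹` (`n` swaps `sZ2` and `sX`, `swap_inv`); `n' = cj u ∘ n` still acts as `w1` on `pv`;
`n' (dd x g) = dd x' (n' g)` gives `x' = s1 σ x` (`dd_eq_of_Q1`, `w1_dd`), so `ε = w1 ∘ n'` commutes with `dd x`, `x ∈ DF F` (`s1 (s1 x) = x`); `rigid1` with `t = θ`. -/
theorem w1_mem (hF : F.IsSaturated p) (hS : Std F) (h1 : F.IsEssential p Q1) : Mor F Q1 w1 := by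
  obtain ⟨ht, -, n, m, q, e⟩ := q1 hF hS h1
  obtain ⟨n', m', i⟩ := exists_isoOn m q
  have a1 : ∀ x ∈ sZ2, n x ∈ sX := fun x hx =>
    have k := pv_eq.1 (e x (Z2_le_Q1 hx))
    ⟨(q x (Z2_le_Q1 hx)).1, (q x (Z2_le_Q1 hx)).2, k.2.1.trans (neg_eq_zero.2 hx.2.2.2), k.2.2.trans hx.1⟩
  have a2 : ∀ x ∈ sX, n x ∈ sZ2 := fun x hx =>
    have k := pv_eq.1 (e x (X_le_Q1 hx))
    ⟨k.1.trans hx.2.2.2, (q x (X_le_Q1 hx)).1, (q x (X_le_Q1 hx)).2, k.2.1.trans (neg_eq_zero.2 hx.2.2.1)⟩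
  obtain ⟨u, hu, hn⟩ := exists_norm dd (DF F) (not_dvd_DF hF) ((isPGroup_U p).to_subgroup _) (fun x _ => dd_Q1 x) i fun x hd => by
    obtain ⟨u, hu, x', hd', e⟩ := stabQ1 hF hS h1.1 (m.comp ((Mor.mono hd le_top).comp m' i.maps') fun y hy => dd_Q1 _ (i.maps' y hy))
      (fun y hy => q _ (dd_Q1 _ (i.maps' y hy))) (fun y hy => a2 _ (dd_X _ (swap_inv i Z2_le_Q1 X_le_Q1 a1 a2 y hy)))
      fun y hy => a1 _ (dd_Z2 _ (swap_inv i X_le_Q1 Z2_le_Q1 a2 a1 y hy))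
    exact ⟨u, hu, x', hd', fun g hg => by simpa only [Function.comp, i.left g hg] using e _ (q g hg)⟩
  have mw := m.cj_comp (s := u) trivial
  have iw := i.trans (isoOn_cj u)
  have ew : ∀ g ∈ Q1, pv ((cj u ∘ n) g) = pv (w1 g) := fun g hg => (pv_cj' hu (q g hg)).trans (e g hg)
  obtain ⟨x', -, hx'⟩ := hn _ (ht (Units.mk0 _ (θ_ne_zero σ)))
  replace hx' : ∀ g ∈ Q1, (cj u ∘ n) (dd _ g) = dd x' ((cj u ∘ n) g) := hx'
  generalize cj u ∘ n = w at *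
  obtain rfl : x' = s1 σ (ts σ 1 (Units.mk0 _ (θ_ne_zero σ))) := dd_eq_of_Q1 (σ := σ) fun g hg => by
    have k := iw.maps' g hg
    have k1 := pv_eq.1 (ew _ (dd_Q1 (ts σ 1 (Units.mk0 _ (θ_ne_zero σ))) k))
    have k2 := pv_eq.1 (ew _ k)
    rw [hx' _ k, w1_dd] at k1
    rw [iw.right g hg] at k1 k2
    rw [k1.1, k1.2.1, dd_a, dd_a, dd_d, dd_d, k2.1, k2.2.1]
    exact ⟨rfl, rfl⟩
  have r := rigid1 (iw.trans isoOn_w1).hom (fun g hg => ⟨isoOn_w1.maps _ (iw.maps g hg), by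
      have k := pv_eq.1 (ew g hg)
      simp [pv_eq, k]⟩) (t := Units.mk0 _ (θ_ne_zero σ)) (θ_ne σ)
    fun g hg => by simp only [Function.comp, hx' g hg, w1_dd, s1_s1]
  exact mw.congr fun g hg => (isoOn_w1.left _ (iw.maps g hg)).symm.trans (congrArg w1 (r g hg))

/-- As `w1_mem` with `n = dd (ts σ (-1) 1) ∘ n₀` (`n₀` from `exists_ns` with `s = -1`; `l = -1`, `m = 1`), which swaps `b` and `d`; `stabQ2`, `dd_eq_of_Q2`, `w2_dd`, `rigid2`, `ts_mem`. -/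
theorem w2_mem (hF : F.IsSaturated p) (hS : Std F) (h1 : F.IsEssential p Q1) (h2 : F.IsEssential p Q2) : Mor F Q2 w2 := by
  obtain ⟨n, m, q, e⟩ : ∃ n, Mor F Q2 n ∧ (∀ x ∈ Q2, n x ∈ Q2) ∧ ∀ g ∈ Q2, (n g).b = g.d ∧ (n g).d = g.b := by
    obtain ⟨n, m, q, e⟩ := exists_ns hF h2 (-1)
    exact ⟨_, (Mor.mono (ts_mem hF hS h1 h2 (-1) 1) le_top).comp m q, fun x hx => dd_Q2 _ (q x hx), fun g hg => by
      simp [(e g hg).1, (e g hg).2]⟩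
  obtain ⟨n', m', i⟩ := exists_isoOn m q
  have a1 : ∀ x ∈ sPh, n x ∈ sL := fun x hx => ⟨q x hx.1, (e x hx.1).2.trans hx.2⟩
  have a2 : ∀ x ∈ sL, n x ∈ sPh := fun x hx => ⟨q x hx.1, (e x hx.1).1.trans hx.2⟩
  obtain ⟨u, hu, hn⟩ := exists_norm dd (DF F) (not_dvd_DF hF) ((isPGroup_U p).to_subgroup _) (fun x _ => dd_Q2 x) i fun x hd => by
    obtain ⟨u, hu, x', hd', e⟩ := stabQ2 hF hS h2.1 (m.comp ((Mor.mono hd le_top).comp m' i.maps') fun y hy => dd_Q2 _ (i.maps' y hy))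
      (fun y hy => q _ (dd_Q2 _ (i.maps' y hy))) (fun y hy => a2 _ (dd_L _ (swap_inv i Ph_le_Q2 L_le_Q2 a1 a2 y hy)))
      fun y hy => a1 _ (dd_Ph _ (swap_inv i L_le_Q2 Ph_le_Q2 a2 a1 y hy))
    exact ⟨u, hu, x', hd', fun g hg => by simpa only [Function.comp, i.left g hg] using e _ (q g hg)⟩
  have mw := m.cj_comp (s := u) trivial
  have iw := i.trans (isoOn_cj u)
  have ew : ∀ g ∈ Q2, ((cj u ∘ n) g).b = g.d ∧ ((cj u ∘ n) g).d = g.b := fun g hg =>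
    ⟨(cj_bd hu (q g hg)).1.trans (e g hg).1, (cj_bd hu (q g hg)).2.trans (e g hg).2⟩
  replace hn : ∀ x ∈ DF F, ∃ x' ∈ DF F, ∀ g ∈ Q2, (cj u ∘ n) (dd x g) = dd x' ((cj u ∘ n) g) := hn
  generalize cj u ∘ n = w at *
  have r := rigid2 (iw.trans isoOn_w2).hom (fun g hg => ⟨rfl, (ew g hg).2, (ew g hg).1⟩) fun s t g hg => by
    obtain ⟨x', -, hx'⟩ := hn _ (ts_mem hF hS h1 h2 s t)
    generalize ts σ s t = x at *
    obtain rfl : x' = s2 x := dd_eq_of_Q2 (σ := σ) fun g hg => by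
      have k := iw.maps' g hg
      have k1 := ew _ (dd_Q2 x k)
      have k2 := ew _ k
      rw [hx' _ k] at k1
      rw [iw.right g hg] at k1 k2
      rw [k1.1, k1.2]
      simp [k2.1, k2.2]
    simp only [Function.comp, hx' g hg, w2_dd, s2_s2]
  exact mw.congr fun g hg => (isoOn_w2.left _ (iw.maps g hg)).symm.trans (congrArg w2 (r g hg))

theorem le_of_gen (hF : F.IsSaturated p) (hS : Std F) (h : ∀ f, Mor F ⊤ f → Mor F' ⊤ f) (h1 : Mor F Q1 w1) (h1' : Mor F' Q1 w1)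
    (h2 : Mor F Q2 w2) (h2' : Mor F' Q2 w2) : F ≤ F' := by
  refine alperin_isSubsystemOf (isPGroup_top p) hF fun P f hP hf e => ?_
  have m : ∀ x ∈ P, f x ∈ P := img_le_iff.1 e.le
  rcases hP with rfl | hP
  · exact h f hf
  rcases ess_cases hF hP with rfl | rfl
  · exact mor_of_gen h hf m h1 h1' isoOn_w1 (extQ1 hF hP.1) (((q1 hF hS hP).2.1 f hf m).imp_right fun ⟨s, k⟩ =>
      ⟨s, fun x hx => ⟨(k x hx).2.2.2, rfl, rfl, neg_eq_zero.2 (k x hx).2.2.1⟩⟩)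
  · obtain ⟨f', -, i⟩ := exists_isoOn hf m
    exact mor_of_gen h hf m h2 h2' isoOn_w2 (extQ2 hF hP.1) ((line_cases i).imp_right fun ⟨s, k⟩ =>
      ⟨xa s, fun x hx => ⟨rfl, (k x hx).2⟩⟩)

end CL.U5
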