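/-
S5258: matrices for the group `SU₅(q)` of the antidiagonal form.
-/
import Cfsg.Agent.FUS.U5.Dd

set_option autoImplicit false
set_option maxHeartbeats 200000
set_option linter.unusedSimpArgs false
set_option linter.unusedSectionVars false
set_option linter.unusedVariables false

namespace CL.U5

open CL.Fus CL.RF4 Subgroup Cfsg U Un

variable {K : Type*} [Field K] [Finite K] {σ : K →+* K} [T : Un σ]

namespace Mo

open Matrix

local notation "M5" => Matrix (Fin 5) (Fin 5) K

/-- the adjoint for the antidiagonal form -/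
def adj (σ : K →+* K) (M : M5) : M5 := of fun i j => σ (M j.rev i.rev)

theorem adj_mul (M N : M5) : adj σ (M * N) = adj σ N * adj σ M := by
  ext i j
  simp only [adj, of_apply, mul_apply, map_sum, map_mul]
  rw [← Equiv.sum_comp Fin.revPerm]
  simp only [Fin.revPerm_apply, mul_comm]

theorem adj_one : adj σ (1 : M5) = 1 := by
  ext i j
  simp [adj, one_apply, Fin.rev_inj, eq_comm, apply_ite σ]

/-- `SU₅(q)` for the antidiagonal form -/
def Gs (σ : K →+* K) [Un σ] : Subgroup (SpecialLinearGroup (Fin 5) K) where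
  carrier := {M | adj σ M.1 * M.1 = 1}
  one_mem' := by
    change adj σ 1 * 1 = 1
    rw [adj_one, mul_one]
  mul_mem' {M N} hM hN := by
    change adj σ (M.1 * N.1) * (M.1 * N.1) = 1
    rw [adj_mul, mul_assoc, ← mul_assoc (adj σ M.1), hM, one_mul, hN]
  inv_mem' {M} hM := by
    have h : M.1 * (M⁻¹).1 = 1 := congrArg Subtype.val (mul_inv_cancel M)
    change adj σ (M⁻¹).1 * (M⁻¹).1 = 1
    calc _ = adj σ (M⁻¹).1 * (adj σ M.1 * M.1) * (M⁻¹).1 := by rw [hM, mul_one]
      _ = 1 := by rw [← mul_assoc, ← adj_mul, mul_assoc, h, adj_one, mul_one]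

/-- an element from a matrix -/
def mk (M : M5) (hd : M.det = 1) (hu : adj σ M * M = 1) : Gs σ := ⟨⟨M, hd⟩, hu⟩

theorem gext {x y : Gs σ} (h : x.1.1 = y.1.1) : x = y := Subtype.ext (Subtype.ext h)

theorem det_tri {X : M5} (h : ∀ i j, j < i → X i j = 0) :
    X.det = X 0 0 * X 1 1 * X 2 2 * X 3 3 * X 4 4 := by
  rw [det_of_upperTriangular fun i j hij => h i j hij, Fin.prod_univ_five]

/-- the matrix of an element of `U σ` -/
def mat (g : U σ) : M5 :=
  !![1, g.a, g.d, g.f, g.e;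
     0, 1, g.b, g.c, -σ g.f - σ g.a * g.c - σ g.d * g.b;
     0, 0, 1, -σ g.b, σ g.a * σ g.b - σ g.d;
     0, 0, 0, 1, -σ g.a;
     0, 0, 0, 0, 1]

theorem mat_mul (g h : U σ) : mat (g * h) = mat g * mat h := by
  ext i j
  fin_cases i <;> fin_cases j <;> simp [mat, mul_apply, Fin.sum_univ_five] <;> usimp <;> ring

theorem adj_mat (g : U σ) : adj σ (mat g) * mat g = 1 := by
  ext i j
  fin_cases i <;> fin_cases j <;> simp [adj, mat, mul_apply, Fin.sum_univ_five, Fin.rev, T.sq, σc, σe] <;>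
    ring

theorem mat_tri (g : U σ) (i j : Fin 5) (h : j < i) : mat g i j = 0 := by
  fin_cases i <;> fin_cases j <;> first | rfl | exact absurd h (by decide)

/-- the embedding of `U σ` -/
def uu : U σ →* Gs σ := MonoidHom.mk'
  (fun g => mk (mat g) (by rw [det_tri (mat_tri g)]; simp [mat]) (adj_mat g))
  fun g h => gext (mat_mul g h)

theorem uu_inj : Function.Injective (uu (σ := σ)) := fun g h e => by
  have k : mat g = mat h := congrArg (fun x : Gs σ => x.1.1) e
  exact U.ext (congrFun (congrFun k 0) 1) (congrFun (congrFun k 1) 2) (congrFun (congrFun k 1) 3)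
    (congrFun (congrFun k 0) 2) (congrFun (congrFun k 0) 3) (congrFun (congrFun k 0) 4)

/-- the first reflection -/
def r1 : Gs σ := mk !![1, 0, 0, 0, 0; 0, 0, 0, 1, 0; 0, 0, -1, 0, 0; 0, 1, 0, 0, 0; 0, 0, 0, 0, 1]
  (by simp [det_succ_row_zero, Fin.sum_univ_succ, Fin.succAbove]) (by
    ext i j
    fin_cases i <;> fin_cases j <;> simp [adj, mul_apply, Fin.sum_univ_five, Fin.rev])

/-- the second reflection -/
def r2 : Gs σ := mk !![0, 1, 0, 0, 0; 1, 0, 0, 0, 0; 0, 0, 1, 0, 0; 0, 0, 0, 0, 1; 0, 0, 0, 1, 0]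
  (by simp [det_succ_row_zero, Fin.sum_univ_succ, Fin.succAbove]) (by
    ext i j
    fin_cases i <;> fin_cases j <;> simp [adj, mul_apply, Fin.sum_univ_five, Fin.rev])

theorem r1_u {g : U σ} (hg : g ∈ Q1) : r1 * uu g * r1⁻¹ = uu (w1 g) := by
  refine mul_inv_eq_iff_eq_mul.2 (gext ?_)
  change r1.1.1 * mat g = mat (w1 g) * r1.1.1
  ext i j
  fin_cases i <;> fin_cases j <;> simp [r1, mk, mat, mul_apply, Fin.sum_univ_five, hg.1, hg.2]

theorem r2_u {g : U σ} (hg : g ∈ Q2) : r2 * uu g * r2⁻¹ = uu (w2 g) := by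
  refine mul_inv_eq_iff_eq_mul.2 (gext ?_)
  change r2.1.1 * mat g = mat (w2 g) * r2.1.1
  ext i j
  fin_cases i <;> fin_cases j <;>
    simp [r2, mk, mat, mul_apply, Fin.sum_univ_five, mem_Q2.1 hg, T.sq, mul_comm]

/-- the diagonal part -/
def wt (σ : K →+* K) (x : Dg K) : Fin 5 → Kˣ :=
  ![x.l * x.m, x.m, 1, (σu σ x.m)⁻¹, (σu σ x.l * σu σ x.m)⁻¹]

theorem wt_rev (x : Dg K) (i : Fin 5) : σu σ (wt σ x i.rev) = (wt σ x i)⁻¹ := by
  fin_cases i <;> refine Units.ext ?_ <;> simp [wt, Fin.rev, T.sq]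

theorem wt_mul (x y : Dg K) (i : Fin 5) : wt σ (x * y) i = wt σ x i * ru x.ρ (wt σ y i) := by
  fin_cases i <;> refine Units.ext ?_ <;> simp [wt, map_σ] <;> ring

/-- the action on matrices -/
def act (σ : K →+* K) (x : Dg K) (M : M5) : M5 :=
  of fun i j => wt σ x i * x.ρ (M i j) * ((wt σ x j)⁻¹ : Kˣ)

theorem act_eq (x : Dg K) (M : M5) : act σ x M = diagonal (fun i => (wt σ x i : K)) *
    (x.ρ : K →+* K).mapMatrix M * diagonal fun i => (((wt σ x i)⁻¹ : Kˣ) : K) := by
  ext i j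
  simp [act, diagonal_mul, mul_diagonal]

theorem act_mul (x : Dg K) (M N : M5) : act σ x (M * N) = act σ x M * act σ x N := by
  rw [act_eq, act_eq, act_eq, map_mul]
  simp only [mul_assoc]
  rw [← mul_assoc (diagonal _) (diagonal _), diagonal_mul_diagonal]
  simp

theorem act_id (x : Dg K) : act σ x 1 = 1 := by
  rw [act_eq, map_one, mul_one, diagonal_mul_diagonal]
  simp

theorem act_det (x : Dg K) (M : M5) : (act σ x M).det = x.ρ M.det := by
  rw [act_eq, det_mul, det_mul, mul_right_comm, ← det_mul, diagonal_mul_diagonal, ← RingHom.map_det]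
  simp

theorem act_adj (x : Dg K) (M : M5) : adj σ (act σ x M) = act σ x (adj σ M) := by
  ext i j
  have h1 := congrArg Units.val (wt_rev (σ := σ) x j)
  have h2 := congrArg Units.val (congrArg Inv.inv (wt_rev (σ := σ) x i))
  rw [← map_inv, inv_inv] at h2
  simp only [adj, act, of_apply, map_mul, map_σ]
  rw [σu_val] at h1 h2
  rw [h1, h2]
  ring

theorem act_comp (x y : Dg K) (M : M5) : act σ (x * y) M = act σ x (act σ y M) := by
  ext i j
  simp only [act, of_apply, wt_mul, map_mul, mul_inv, ← map_inv, Units.val_mul, ru_val, Dg.mul_ρ,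
    RingAut.mul_apply]
  ring

theorem act_one (M : M5) : act σ 1 M = M := by
  ext i j
  have : ∀ i, wt σ (1 : Dg K) i = 1 := fun i => by fin_cases i <;> simp [wt]
  simp [act, this]

/-- the action on the group -/
def ac (x : Dg K) (g : Gs σ) : Gs σ := mk (act σ x g.1.1) (by rw [act_det, g.1.2, map_one])
  (by rw [act_adj, ← act_mul, show adj σ g.1.1 * g.1.1 = 1 from g.2, act_id])

theorem ac_comp (x y : Dg K) (g : Gs σ) : ac (x * y) g = ac x (ac y g) := gext (act_comp x y _)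

theorem ac_one (g : Gs σ) : ac 1 g = g := gext (act_one _)

/-- diagonal times field automorphisms -/
def phi : Dg K →* MulAut (Gs σ) := MonoidHom.mk' (fun x =>
  { toFun := ac x
    invFun := ac x⁻¹
    left_inv := fun g => by rw [← ac_comp, inv_mul_cancel, ac_one]
    right_inv := fun g => by rw [← ac_comp, mul_inv_cancel, ac_one]
    map_mul' := fun g h => gext (act_mul x _ _) }) fun x y => MulEquiv.ext (ac_comp x y)

theorem act_mat (x : Dg K) (g : U σ) : act σ x (mat g) = mat (dd x g) := by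
  have h1 : σ x.l ≠ 0 := (map_ne_zero σ).2 x.l.ne_zero
  have h2 : σ x.m ≠ 0 := (map_ne_zero σ).2 x.m.ne_zero
  ext i j
  fin_cases i <;> fin_cases j <;> simp [act, wt, mat, map_σ, T.sq] <;> field_simp

/-- the diagonal of a diagonal element -/
def hv (σ : K →+* K) (s t : Kˣ) : Fin 5 → Kˣ :=
  ![s, t, σu σ s * σu σ t * (s * t)⁻¹, (σu σ t)⁻¹, (σu σ s)⁻¹]

theorem hv_eq (s t : Kˣ) (i : Fin 5) : hv σ s t i = hv σ s t 2 * wt σ (ts σ s t) i := by
  have h1 : σ s ≠ 0 := (map_ne_zero σ).2 s.ne_zero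
  have h2 : σ t ≠ 0 := (map_ne_zero σ).2 t.ne_zero
  fin_cases i <;> refine Units.ext ?_ <;> simp [hv, wt, T.sq] <;> field_simp

/-- a diagonal element -/
def hh (s t : Kˣ) : Gs σ := mk (diagonal fun i => (hv σ s t i : K)) (by
    have h1 : σ s ≠ 0 := (map_ne_zero σ).2 s.ne_zero
    have h2 : σ t ≠ 0 := (map_ne_zero σ).2 t.ne_zero
    rw [det_diagonal, Fin.prod_univ_five]
    simp [hv]
    field_simp) (by
    have h1 : σ s ≠ 0 := (map_ne_zero σ).2 s.ne_zero
    have h2 : σ t ≠ 0 := (map_ne_zero σ).2 t.ne_zero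
    ext i j
    fin_cases i <;> fin_cases j <;> simp [adj, mul_diagonal, hv, Fin.rev, T.sq]
    field_simp)

theorem hh_u (s t : Kˣ) (g : U σ) : hh s t * uu g * (hh s t)⁻¹ = uu (dd (ts σ s t) g) := by
  refine mul_inv_eq_iff_eq_mul.2 (gext ?_)
  change diagonal _ * mat g = mat _ * diagonal _
  ext i j
  rw [← act_mat, diagonal_mul, mul_diagonal, hv_eq s t i, hv_eq s t j]
  simp only [act, of_apply, ts_ρ, RingAut.one_apply, Units.val_mul, Units.val_inv_eq_inv_val]
  field_simp

theorem hh_pow (s t : Kˣ) : (hh s t : Gs σ) ^ Nat.card Kˣ = 1 := by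
  refine gext ?_
  change diagonal _ ^ _ = 1
  rw [diagonal_pow, ← diagonal_one]
  congr 1
  funext i
  rw [Pi.pow_apply, ← Units.val_pow_eq_pow_val, pow_card_eq_one', Units.val_one]

end Mo

end CL.U5
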