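/-
S5258: the automorphisms of `U σ`; standard position.
-/
import Cfsg.Agent.FUS.U5.Dd
import Cfsg.Agent.FUS.U5.Gen
import Cfsg.Agent.FUS.RF4.BigA
import Cfsg.Agent.PLOC.PFrattini
import Cfsg.Agent.S4207

set_option autoImplicit false
set_option linter.unusedSimpArgs false
set_option linter.unusedSectionVars false
set_option linter.unusedVariables false

namespace CL.U5

open CL.Fus CL.RF4 Subgroup Cfsg Cfsg.FusionSystem U Un
open scoped commutatorElement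

variable {K : Type*} [Field K] [Finite K] {σ : K →+* K} [T : Un σ] {p : ℕ} [Fact p.Prime] [CharP K p]
  {F F' : FusionSystem (⊤ : Subgroup (U σ))}

namespace StdA

variable {g h : U σ}

theorem mPh (k : ∀ x : U σ, ⁅g, x⁆.d = 0) : g ∈ sPh :=
  ⟨by simpa [brk_d] using k (el 0 1 0 0), by simpa [brk_d] using k (xa 1)⟩

theorem mZ2 (k : ∀ x : U σ, ⁅g, x⁆ ∈ sZ) : g ∈ sZ2 :=
  have h1 := mPh fun x => (k x).2.2.2.1
  ⟨h1.1, h1.2, by simpa [brk_f_Ph _ h1] using (brk_symm (k (xa 1))).2.2.2.2,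
    by simpa [brk_f_Ph _ h1] using (brk_symm (k (el 0 1 0 0))).2.2.2.2⟩

theorem mZ (k : ∀ x, g * x = x * g) : g ∈ sZ :=
  have h1 := mZ2 fun x => comm_iff.1 (k x) ▸ one_mem _
  ⟨h1.1, h1.2.1, h1.2.2.1, h1.2.2.2, (lin_ind (σ := σ) (x := σ g.f) fun a => by
    have := (comm_Z2 h1).1 (k (xa a)).symm
    rw [xa_a] at this
    linear_combination -this).2⟩

theorem mV (hg : g ∈ sPh) (k : ∀ d, g * el 0 0 d 0 = el 0 0 d 0 * g) : g ∈ sV := ⟨hg.1, hg.2, by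
  by_contra hd
  obtain ⟨d, e⟩ := exists_brk_Y hg hd (z := ze (θ σ - σ (θ σ)) (by simp [T.sq])) ⟨rfl, rfl, rfl, rfl, rfl⟩
  rw [comm_iff.1 (k d)] at e
  exact θ_sub σ (congrArg U.e e).symm⟩

theorem div_Z (hg : g ∈ sZ2) (hh : h ∈ sZ2) : g⁻¹ * h ∈ sZ ↔ g.f = h.f := by
  rw [mem_sZ2] at hg hh; rw [mem_sZ]; usimp; simp [hg, hh, neg_add_eq_zero]

theorem div_Z2 (hg : g ∈ sPh) (hh : h ∈ sPh) : g⁻¹ * h ∈ sZ2 ↔ g.c = h.c ∧ g.d = h.d := by
  rw [mem_sPh] at hg hh; rw [mem_sZ2]; usimp; simp [hg, hh, neg_add_eq_zero]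

theorem Ph_le (N : Subgroup (U σ)) (hN : ∀ x y : U σ, ⁅x, y⁆ ∈ N) : sPh ≤ N := by
  have h1 : sZ ≤ N := fun z hz => by
    obtain ⟨f, rfl⟩ := exists_brk_Z2 (g := xa 1) one_ne_zero hz
    exact hN _ _
  have h2 : sZ2 ≤ N := fun z hz => by
    have k : (el 0 0 z.f 0 : U σ) ∈ sPh := ⟨rfl, rfl⟩
    exact (N.mul_mem_cancel_left (N.inv_mem (hN (el 0 1 0 0) _))).1
      (h1 ((div_Z (brk_Ph _ k) hz).2 (by simp [brk_f_Ph _ k])))
  intro y hy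
  obtain ⟨x, hx⟩ := exists_sub (σ := σ) one_ne_zero (tr_c (Ph_le_P hy))
  exact (N.mul_mem_cancel_left (N.inv_mem (hN (el 0 1 0 0) (el (-y.d) x 0 0)))).1
    (h2 ((div_Z2 (brk_top _ _) hy).2 ⟨by simpa [brk_c] using hx, by simp [brk_d]⟩))

theorem ivZ {A : Set (U σ → U σ)} (hA : Au ⊤ A) : Ivs ⊤ A sZ := hA.iv_Zn.congr (fun y hy =>
  ⟨fun k => mZ fun x => k.2 x trivial, fun k => ⟨hy, fun x _ => (comm_Z k x).symm⟩⟩) hA

theorem ivZ2 {A : Set (U σ → U σ)} (hA : Au ⊤ A) : Ivs ⊤ A sZ2 := (hA.iv_comm hA.iv_self (ivZ hA)).congr (fun y _ =>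
  ⟨fun k => mZ2 fun x => k x trivial trivial, fun k x _ _ => brk_symm (brk_Z2 x k)⟩) hA

end StdA
open StdA

/-- With `hA = au_pair (isoOn_top α)` or general `Au ⊤ A`: `Z = Z(S)` (`iv_Zn`), `Z₂ = {g | [g, S] ≤ Z}` (`iv_comm`), `Φ = {g | [g, S] ≤ Z₂}`, `Q₂ = C(Z₂)` (`iv_cent`, `Q2_of_comm`),
`V = Φ ⊓ C(Φ)`, `sP = {g | ∀ y ∈ Φ, ∃ v ∈ V, [g, y]⁻¹ [g, v] ∈ Z}` (`brk_f_Ph`: for `g.b = 0` take `v = zc y.c`; if `g.b ≠ 0` then every element of `K` is `g.a c` with `c + σ c = 0`, false: `g.a = 0` or use `g.a τ`). -/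
theorem ivS {A : Set (U σ → U σ)} (hA : Au ⊤ A) : Ivs ⊤ A sPh ∧ Ivs ⊤ A sV ∧ Ivs ⊤ A Q2 ∧ Ivs ⊤ A sP := by
  have i1 := ivZ hA
  have i2 := ivZ2 hA
  have i3 : Ivs ⊤ A sPh := (hA.iv_comm hA.iv_self i2).congr (fun y _ =>
    ⟨fun k => mPh fun x => (k x trivial trivial).2.2.2, fun k x _ _ => brk_symm (brk_Ph x k)⟩) hA
  have i4 : Ivs ⊤ A sV := (i3.inter (hA.iv_cent i3)).congr (fun y _ => ⟨fun k => mV k.1 fun d => k.2 _ trivial ⟨rfl, rfl⟩,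
    fun k => ⟨V_le_Ph k, fun x _ hx => (comm_V k hx.1).symm⟩⟩) hA
  have i5 : Iv ⊤ A {g | ∀ y ∈ sPh, ∃ v ∈ sV, ⁅g, y⁆⁻¹ * ⁅g, v⁆ ∈ sZ} := fun α hα g _ h y hy => by
    obtain ⟨y, -, h2, rfl⟩ := hA.surj' i3 hα trivial hy
    obtain ⟨v, hv, k⟩ := h y h2
    have hm := hA.hom α hα
    have := i1 α hα _ trivial k
    rw [hm trivial trivial, hm.map_inv trivial, hm.map_commutator trivial trivial, hm.map_commutator trivial trivial] at this
    exact ⟨α v, i4 α hα v trivial hv, this⟩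
  refine ⟨i3, i4, (hA.iv_cent i2).congr (fun y _ => ⟨fun k => Q2_of_comm fun f => k _ trivial ⟨rfl, rfl, rfl, rfl⟩,
    fun k x _ hx => comm_V (Z2_le_V hx) k⟩) hA, i5.congr (fun g _ => ⟨fun k => ?_, fun k y hy => ?_⟩) hA⟩
  · by_contra hb
    have hb' : σ g.b ≠ 0 := (map_ne_zero σ).2 hb
    have : ∀ t, ∃ c, c + σ c = 0 ∧ t = g.a * c := fun t => by
      have k1 : (el 0 0 (t / σ g.b) 0 : U σ) ∈ sPh := ⟨rfl, rfl⟩
      obtain ⟨v, hv, e⟩ := k _ k1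
      rw [div_Z (brk_Ph g k1) (brk_Ph g (V_le_Ph hv)), brk_f_Ph g k1, brk_f_Ph g (V_le_Ph hv), hv.2.2] at e
      exact ⟨v.c, tr_c hv.2.1, by simpa [mul_div_cancel₀ _ hb'] using e⟩
    obtain ⟨c, -, e⟩ := this 1
    obtain ⟨c', e1, e2⟩ := this (g.a * τ σ)
    rw [← mul_left_cancel₀ (left_ne_zero_of_mul_eq_one e.symm) e2, τ_eq] at e1
    exact one_ne_zero (by linear_combination e1 : (1 : K) = 0)
  · have k1 : (zc y.c (tr_c (Ph_le_P hy)) : U σ) ∈ sV := ⟨rfl, rfl, rfl⟩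
    exact ⟨_, k1, (div_Z (brk_Ph g hy) (brk_Ph g (V_le_Ph k1))).2 (by
      simp [brk_f_Ph g hy, brk_f_Ph g (V_le_Ph k1), mem_sP.1 k])⟩

/-- `RF4.exists_crd` gives additive bijections `φa` (`S / Q₂`), `φb` (`S / sP`), `φd` (`Φ / V`); `[xa a, el 0 b 0 0].d = a b` (`brk_d`) gives `φd (a b) = φa a * φb b`; `RF4.exists_ringAut`. -/
theorem aut_form (α : MulAut (U σ)) : ∃ x : Dg K, ∀ g, (α g).a = (dd x g).a ∧ (α g).b = (dd x g).b := by
  have h := isoOn_top α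
  obtain ⟨i1, i2, i3, i4⟩ := ivS (au_pair h)
  have m := fun y hy => i1 α (Or.inl rfl) y trivial hy
  obtain ⟨fa, ea⟩ := exists_crd h.hom h.maps U.a (fun _ _ _ _ => rfl) (fun a => ⟨xa a, trivial, rfl⟩) fun y hy => iff_of_iv h i3 hy
  obtain ⟨fb, eb⟩ := exists_crd h.hom h.maps U.b (fun _ _ _ _ => rfl) (fun a => ⟨el 0 a 0 0, trivial, rfl⟩)
    fun y hy => iff_of_iv h i4 hy
  obtain ⟨fd, ed⟩ := exists_crd (h.hom.mono le_top) m U.d (fun x hx _ _ => by simp [mul_d, hx.1])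
    (fun a => ⟨el 0 0 a 0, ⟨rfl, rfl⟩, rfl⟩) fun y hy => by
      simpa [mem_sV, hy.1, hy.2, (m y hy).1, (m y hy).2] using iff_of_iv h i2 (y := y) trivial
  obtain ⟨ρ, k⟩ := exists_ringAut fd fa fb fun a b => by
    have := ed _ (brk_top (xa a) (el 0 b 0 0))
    rw [map_commutatorElement, brk_d, brk_d, ea _ trivial, ea _ trivial, eb _ trivial, eb _ trivial] at this
    simpa using this.symm
  exact ⟨⟨Units.mk0 (fa 1) (by simp), Units.mk0 (fb 1) (by simp), ρ⟩, fun g =>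
    ⟨(ea g trivial).trans (k _).2.1, (eb g trivial).trans (k _).2.2⟩⟩

/-- the automorphisms that are trivial on `S / Φ(S)` -/
def K0 (σ : K →+* K) [Un σ] : Subgroup (MulAut (U σ)) where
  carrier := {α | ∀ g, (α g).a = g.a ∧ (α g).b = g.b}
  one_mem' _ := ⟨rfl, rfl⟩
  mul_mem' {a b} ha hb g := ⟨(ha (b g)).1.trans (hb g).1, (ha (b g)).2.trans (hb g).2⟩
  inv_mem' {a} ha g := by simpa [eq_comm] using ha (a⁻¹ g)

/-- `sPh ≤ commutator ≤ frattini` (an element of `Φ` is a product of commutators `[xa d, el 0 1 0 0]`, `[el 0 b 0 0, el 0 1 0 0]`, `[el 0 1 0 0, el 0 0 d 0]`, `[xa 1, xf f]`), then Burnside's theorem on automorphisms trivial on the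
Frattini quotient (search `frattini` + `MulAut` in PLOC / SOLV); or layer by layer as `RF4.isPGroup_K0` (`c, d` of a commutator depend only on `a, b`; then `f` by `brk_f_Ph`, `e` by `brk_e_Z2`). -/
theorem isPGroup_K0 (p : ℕ) [Fact p.Prime] [CharP K p] : IsPGroup p (K0 σ) := by
  have hU := isPGroup_U (σ := σ) p
  obtain ⟨n, hn⟩ := IsPGroup.iff_card.1 hU
  obtain ⟨r, hr⟩ := hU.index (frattini _)
  obtain ⟨k, -, hk⟩ := (Nat.dvd_prime_pow Fact.out).1 (Agent.S4207.result hn hr (K0 σ) fun α hα x =>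
    Ph_le _ (CL.PG.commutatorElement_mem_frattini hU) ⟨by simp [mul_a, inv_a, hα x], by simp [mul_b, inv_b, hα x]⟩)
  exact .of_card hk

theorem K0_normal : (K0 σ).Normal := ⟨fun α hα β g => by
  obtain ⟨t, e⟩ := aut_form β
  have k := e (β⁻¹ g)
  rw [MulAut.mul_apply, MulAut.mul_apply, (e _).1, (e _).2]
  rw [MulAut.apply_inv_self] at k
  rw [k.1, k.2]
  simp only [dd_a, dd_b, hα _, and_self]⟩

theorem exists_std (hF : F.IsSaturated p) :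
    ∃ (β : MulAut (U σ)) (F' : FusionSystem (⊤ : Subgroup (U σ))), Corr β β.symm F F' ∧ Std F' :=
  have := K0_normal (σ := σ)
  exists_std_of (isPGroup_top p) hF dd (K0 σ) (isPGroup_K0 p) fun α =>
    let ⟨x, e⟩ := aut_form α
    ⟨x, fun g => by simpa using e ((dd x)⁻¹ g)⟩

end CL.U5
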