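/-
S5258: assembly.
-/
import Cfsg.Agent.FUS.U5.Real
import Cfsg.Agent.FUS.U5.Std
import Cfsg.Agent.FUS.S4.Tools

set_option autoImplicit false
set_option linter.unusedSimpArgs false
set_option linter.unusedSectionVars false
set_option linter.unusedVariables false

namespace CL.U5

open CL.Fus CL.RF4 Subgroup Cfsg Cfsg.FusionSystem U Un
open scoped commutatorElement

variable {K : Type*} [Field K] [Finite K] {σ : K →+* K} [T : Un σ] {p : ℕ} [Fact p.Prime] [CharP K p]
  {F F' : FusionSystem (⊤ : Subgroup (U σ))}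

theorem main {G : Type*} [Group G] [Finite G] (M : Md σ p G) (hF : F.IsSaturated p) : F.IsRealizable p := by
  obtain ⟨β, F₁, hc, hS⟩ := exists_std hF
  replace hF := hc.isSaturated hF
  refine hc.symm.isRealizable ?_
  by_cases h : F₁.IsEssential p Q1 ∧ F₁.IsEssential p Q2
  · exact realizable M hF hS (ts_mem hF hS h.1 h.2) (w1_mem hF hS h.1) (w2_mem hF hS h.1 h.2)
  refine S4F.realizable_of_constrained (isPGroup_top p) (S4F.constrained_of_unique (isPGroup_top p) hF fun R R' hR hR' => ?_)
  rcases ess_cases hF hR with rfl | rfl <;> rcases ess_cases hF hR' with rfl | rfl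
  exacts [rfl, absurd ⟨hR, hR'⟩ h, absurd ⟨hR', hR⟩ h, rfl]

end CL.U5
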